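import Mathlib.Data.Finset.Range
import Mathlib.Tactic.IntervalCases
import Cfsg.Agent.Lib.Compute.PermCert
import Cfsg.Agent.Lib.J2Type.Data

/-!
The table of a Sylow 2-subgroup of the Hall–Janko group and the facts on it that the fusion argument uses: the
central involution is `2`, the other two involutions of the second centre are `1` and `8`, and `5` is an involution
outside the centraliser of the second centre.
-/

set_option autoImplicit false
set_option maxRecDepth 20000
set_option synthInstance.maxSize 4000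
set_option synthInstance.maxHeartbeats 400000

namespace Cfsg.Agent.J2Type

open Cfsg.Agent.PermCert

/-- The product of two labels. -/
def mulN (a b : ℕ) : ℕ := get 7 tbl (128 * a + b)

/-- The inverse of a label. -/
def invN (a : ℕ) : ℕ := get 7 invT a

/-- Conjugation of labels. -/
def cj (s x : ℕ) : ℕ := mulN (mulN s x) (invN s)

/-- The commutator of labels. -/
def cm (a b : ℕ) : ℕ := mulN (mulN a b) (invN (mulN b a))

/-- The labels of the centre. -/
def zc (x : ℕ) : Bool := Nat.beq x 0 || Nat.beq x 2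

/-- The labels of the second centre. -/
def uc (x : ℕ) : Bool := Nat.beq x 0 || Nat.beq x 2 || Nat.beq x 1 || Nat.beq x 8

/-- Membership in the extraspecial subgroup. -/
def inQ (x : ℕ) : Bool := qSet.testBit x

/-- The representatives of the five singular points. -/
def pt (i : ℕ) : ℕ := ptL.getD i 0

/-- The number of labels commuting with one. -/
def centCount (x : ℕ) : ℕ := (List.range 128).countP fun y => Nat.beq (mulN x y) (mulN y x)

theorem mulN_lt (a b : ℕ) : mulN a b < 128 := get_lt _ _ _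

theorem invN_lt (a : ℕ) : invN a < 128 := get_lt _ _ _

theorem group_check : ∀ a < 128, mulN (invN a) a = 0 ∧ mulN a (invN a) = 0 ∧ mulN a 0 = a ∧ mulN 0 a = a := by
  decide +kernel

theorem tree_check : ∀ b < 128, b ≠ 0 → get 7 parN b < b ∧ get 7 parG b ∈ genL ∧
    mulN (get 7 parN b) (get 7 parG b) = b := by decide +kernel

theorem assoc_check : ∀ a < 128, ∀ b < 128, b ≠ 0 →
    mulN a b = mulN (mulN a (get 7 parN b)) (get 7 parG b) := by decide +kernel

theorem genL_lt : ∀ g ∈ genL, g < 128 := by decide +kernel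

theorem centre_check : ∀ x < 128, (∀ g ∈ genL, mulN x g = mulN g x) → zc x = true := by decide +kernel

theorem z_check : ∀ x < 128, mulN x 2 = mulN 2 x := by decide +kernel

theorem invol_check : ∀ x < 128, mulN x x = 0 → uc x = true ∨ centCount x = 16 := by decide +kernel

theorem outside_check : ∀ x < 128, mulN x x = 0 → mulN x 1 ≠ mulN 1 x → ∃ s < 128, cj s 5 = x := by
  decide +kernel

theorem outside_conv : ∀ s < 128, mulN (cj s 5) 1 ≠ mulN 1 (cj s 5) := by decide +kernel

theorem outside_count : ((List.range 128).countP fun x =>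
    Nat.beq (mulN x x) 0 && !Nat.beq (mulN x 1) (mulN 1 x)) = 8 := by decide +kernel

theorem u_check : ∀ x < 128, (mulN x 8 = mulN 8 x ↔ mulN x 1 = mulN 1 x) := by decide +kernel

theorem u_count : centCount 1 = 64 ∧ centCount 8 = 64 ∧ centCount 5 = 16 := by decide +kernel

theorem u_facts : mulN 1 1 = 0 ∧ mulN 8 8 = 0 ∧ mulN 2 2 = 0 ∧ mulN 1 2 = 8 ∧ mulN 8 2 = 1 ∧ cj 3 1 = 8 ∧
    cj 3 8 = 1 ∧ mulN 5 5 = 0 ∧ mulN 5 1 ≠ mulN 1 5 ∧ mulN 3 5 = mulN 5 3 ∧ mulN 3 3 = 2 := by decide +kernel

theorem square_check : ∀ x < 128, mulN (mulN x x) (mulN x x) = 0 → uc (mulN x x) = true := by decide +kernel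

theorem q_closed : ∀ a < 128, ∀ b < 128, inQ a = true → inQ b = true →
    inQ (mulN a b) = true ∧ zc (cm a b) = true := by decide +kernel

theorem q_square : ∀ a < 128, inQ a = true → zc (mulN a a) = true ∧ inQ (invN a) = true := by decide +kernel

theorem q_derived : ∀ a < 128, ∀ b < 128, inQ (cm a b) = true := by decide +kernel

theorem q_count : ((List.range 128).countP fun x => inQ x) = 32 := by decide +kernel

theorem q_mem : inQ 0 = true ∧ inQ 1 = true ∧ inQ 2 = true ∧ inQ 5 = true ∧ inQ 8 = true ∧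
    (∀ i < 5, inQ (pt i) = true ∧ pt i < 128 ∧ mulN (pt i) (pt i) = 0 ∧ zc (pt i) = false) ∧ pt 4 = 1 ∧
    pt 0 = 5 := by decide +kernel

theorem q_centre : ∀ x < 128, inQ x = true → (∀ i < 5, mulN x (pt i) = mulN (pt i) x) → zc x = true := by
  decide +kernel

theorem q_self : ∀ x < 128, (∀ i < 5, zc (cm x (pt i)) = true) → inQ x = true := by decide +kernel

theorem q_singular : ∀ x < 128, inQ x = true → mulN x x = 0 →
    zc x = true ∨ ∃ i < 5, x = pt i ∨ x = mulN (pt i) 2 := by decide +kernel

theorem q_pair : ∀ x < 128, inQ x = true → mulN x x ≠ 0 →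
    ∃ i < 5, ∃ j < 5, i ≠ j ∧ (x = mulN (pt i) (pt j) ∨ x = mulN (mulN (pt i) (pt j)) 2) := by decide +kernel

theorem q_pair_sq : ∀ i < 5, ∀ j < 5, i ≠ j →
    mulN (mulN (pt i) (pt j)) (mulN (pt i) (pt j)) = 2 ∧ zc (mulN (pt i) (pt j)) = false ∧
      zc (mulN (mulN (pt i) (pt j)) 2) = false ∧
      mulN (mulN (mulN (pt i) (pt j)) 2) (mulN (mulN (pt i) (pt j)) 2) = 2 := by decide +kernel

theorem q_invol_outside : ∀ x < 128, inQ x = true → mulN x x = 0 → uc x = true ∨ mulN x 1 ≠ mulN 1 x := by
  decide +kernel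

theorem q_points : ∀ i < 5, ∀ j < 5, (pt i = pt j ∨ pt i = mulN (pt j) 2) → i = j := by decide +kernel

theorem q_orbit : ∀ i < 4, ∃ s < 128, cj s 5 = pt i ∨ cj s 5 = mulN (pt i) 2 := by decide +kernel

theorem out_invol : ∀ x < 128, inQ x = false → zc (mulN x x) = true → mulN x x = 0 := by decide +kernel

theorem out_nonabelian : ∀ x < 128, inQ x = false → zc (mulN x x) = true →
    ∃ a < 128, zc (cm a x) = true ∧ ∃ b < 128, zc (cm b x) = true ∧ zc (cm a b) = false := by decide +kernel

theorem out_derived : ∀ x < 128, inQ x = false → zc (mulN x x) = true →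
    ∃ a < 128, zc (cm a x) = true ∧ ∃ b < 128, zc (cm b x) = true ∧ (cm a b = 1 ∨ cm a b = 8) := by
  decide +kernel

theorem out_cosets : ∀ x < 128, ∀ y < 128, inQ x = false → zc (mulN x x) = true →
    inQ (mulN (invN x) y) = true → zc (mulN y y) = true →
    ∃ s < 128, cj s x = y ∨ cj s x = mulN y 2 := by decide +kernel

theorem out_cent_count : ∀ x < 128, inQ x = false → zc (mulN x x) = true →
    ((List.range 128).countP fun y => zc (cm y x)) = 32 := by decide +kernel

theorem q_index : ∀ s < 128, inQ (mulN s s) = true := by decide +kernel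

theorem act_check : ∀ s < 128, (cj s 1 = 1 ∨ cj s 1 = 8) ∧
    ∀ i < 5, ∃ j < 5, cj s (pt i) = pt j ∨ cj s (pt i) = mulN (pt j) 2 := by decide +kernel

theorem act_ker : ∀ s < 128, (∀ i < 5, cj s (pt i) = pt i ∨ cj s (pt i) = mulN (pt i) 2) → inQ s = true := by
  decide +kernel

theorem out_commute : ∀ x < 128, inQ x = false → mulN x x = 0 → mulN x 1 = mulN 1 x := by decide +kernel

/-- The four permutations of the points induced by the table. -/
def actL : List (List ℕ) := [[0, 1, 2, 3, 4], [3, 2, 1, 0, 4], [1, 0, 3, 2, 4], [2, 3, 0, 1, 4]]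

theorem act_list : ∀ s < 128, ∃ k < 4, ∀ i < 5, cj s (pt i) = pt ((actL.getD k []).getD i 0) ∨
    cj s (pt i) = mulN (pt ((actL.getD k []).getD i 0)) 2 := by decide +kernel

theorem q_gen_closed : ∀ x < 128, inQ x = true → inQ (invN x) = true ∧ (x = 0 ∨ x = 2 ∨
    (∃ i < 5, x = pt i ∨ x = mulN (pt i) 2) ∨
    ∃ i < 5, ∃ j < 5, x = mulN (pt i) (pt j) ∨ x = mulN (mulN (pt i) (pt j)) 2) := by decide +kernel

end Cfsg.Agent.J2Type
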