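import Cfsg.Agent.Lib.Compute.PermCert
import Cfsg.Agent.Lib.J2Type.Table
import Mathlib.GroupTheory.SpecificGroups.Alternating
import Mathlib.GroupTheory.Sylow

/-!
The table modulo its centre is a Sylow 2-subgroup of the alternating group of degree 8.
-/

set_option autoImplicit false
set_option maxRecDepth 20000
set_option linter.style.haveILetI false

namespace Cfsg.Agent.J2Type

open Cfsg.Agent.PermCert

/-- The code of a label on 8 points. -/
def aC (a : ℕ) : Elt := (get 24 alt1 a, get 24 alt2 a)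

/-- The permutation of a label on 8 points. -/
def f8 (a : ℕ) : Equiv.Perm (Fin 8) := toPerm 3 8 (aC a)

/-- Equality of codes. -/
def codeEq (a b : Elt) : Bool := Nat.beq a.1 b.1 && Nat.beq a.2 b.2

theorem codeEq_eq {a b : Elt} (h : codeEq a b = true) : a = b := by
  simp only [codeEq, Bool.and_eq_true, Nat.beq_eq] at h
  exact Prod.ext h.1 h.2

theorem alt_code : ∀ a < 128, validElt 3 8 (aC a) = true ∧
    (zc a = true ∨ ((List.range 8).any fun i => !Nat.beq (get 3 (aC a).1 i) i) = true) := by decide +kernel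

theorem alt_mul : ∀ a < 128, ∀ g ∈ genL, codeEq (aC (mulN a g)) (mul 3 8 (aC a) (aC g)) = true := by
  decide +kernel

theorem alt_zero : codeEq (aC 0) (one 3 8) = true ∧ codeEq (aC 2) (one 3 8) = true := by decide +kernel

theorem alt_sign : ∀ g ∈ genL, Equiv.Perm.sign (f8 g) = 1 := by decide +kernel

theorem rep_f8 {a : ℕ} (ha : a < 128) : Rep 3 (aC a) (f8 a) := rep_toPerm (alt_code a ha).1

theorem f8_zero : f8 0 = 1 :=
  rep_unique (rep_f8 (by omega)) (codeEq_eq alt_zero.1 ▸ rep_one (by norm_num))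

theorem f8_two : f8 2 = 1 :=
  rep_unique (rep_f8 (by omega)) (codeEq_eq alt_zero.2 ▸ rep_one (by norm_num))

theorem f8_gen {a g : ℕ} (ha : a < 128) (hg : g ∈ genL) : f8 (mulN a g) = f8 a * f8 g :=
  rep_unique (rep_f8 (mulN_lt _ _))
    (codeEq_eq (alt_mul a ha g hg) ▸ rep_mul (rep_f8 ha) (rep_f8 (genL_lt g hg)))

theorem f8_mul : ∀ b, b < 128 → ∀ a, a < 128 → f8 (mulN a b) = f8 a * f8 b := by
  intro b
  induction b using Nat.strong_induction_on with
  | _ b ih =>
    intro hb a ha
    rcases eq_or_ne b 0 with rfl | hb0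
    · rw [(group_check a ha).2.2.1, f8_zero, mul_one]
    · obtain ⟨hlt, hg, hpb⟩ := tree_check b hb hb0
      rw [assoc_check a ha b hb hb0, f8_gen (mulN_lt _ _) hg, ih _ hlt (by omega) a ha]
      conv_rhs => rw [← hpb, f8_gen (by omega) hg]
      rw [mul_assoc]

theorem f8_eq_one_iff {a : ℕ} (ha : a < 128) : f8 a = 1 ↔ zc a = true := by
  refine ⟨fun h => ?_, fun h => ?_⟩
  · rcases (alt_code a ha).2 with e | e
    · exact e
    · exfalso
      simp only [List.any_eq_true, List.mem_range, Bool.not_eq_true'] at e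
      obtain ⟨i, hi, hne⟩ := e
      have h1 := ((rep_f8 ha) ⟨i, hi⟩).1
      rw [h] at h1
      simp only [Equiv.Perm.one_apply] at h1
      rw [h1, Nat.beq_refl] at hne
      exact absurd hne (by simp)
  · rcases (show a = 0 ∨ a = 2 by simpa [zc] using h) with rfl | rfl
    exacts [f8_zero, f8_two]

theorem f8_even : ∀ a, a < 128 → f8 a ∈ alternatingGroup (Fin 8) := by
  intro a
  induction a using Nat.strong_induction_on with
  | _ a ih =>
    intro ha
    rcases eq_or_ne a 0 with rfl | h0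
    · rw [f8_zero]; exact one_mem _
    · obtain ⟨hlt, hg, hpb⟩ := tree_check a ha h0
      rw [← hpb, f8_gen (by omega) hg]
      exact mul_mem (ih _ hlt (by omega)) (Equiv.Perm.mem_alternatingGroup.2 (alt_sign _ hg))

/-- A group with the table as a 2-group modulo its centre: the same shape as a Sylow subgroup of `A₈`. -/
theorem exists_alt_equiv {X : Type*} [Group X] {R : Subgroup X} {p : ℕ → X}
    (hmem : ∀ x, x ∈ R ↔ ∃ a, a < 128 ∧ p a = x)
    (hom : ∀ a b, a < 128 → b < 128 → p (mulN a b) = p a * p b)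
    (hker : ∀ a, a < 128 → (p a = 1 ↔ zc a = true)) :
    Nat.card R = 64 ∧ ∃ P : Sylow 2 ↥(alternatingGroup (Fin 8)),
      Nonempty (↥R ≃* ↥(P : Subgroup ↥(alternatingGroup (Fin 8)))) := by
  classical
  haveI : Fact (Nat.Prime 2) := ⟨Nat.prime_two⟩
  have sel : ∀ x : R, ∃ a, a < 128 ∧ p a = x := fun x => (hmem x).1 x.2
  choose lb hlb hp using sel
  have key : ∀ a b, a < 128 → b < 128 → p a = p b → f8 a = f8 b := by
    intro a b ha hb h
    have h1 : p (mulN (invN a) b) = 1 := by
      rw [hom _ _ (invN_lt a) hb, ← h, ← hom _ _ (invN_lt a) ha, (group_check a ha).1]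
      exact (hker 0 (by omega)).2 rfl
    have h2 := (f8_eq_one_iff (mulN_lt _ _)).2 ((hker _ (mulN_lt _ _)).1 h1)
    have h3 : f8 (invN a) * f8 a = 1 := by
      rw [← f8_mul a ha _ (invN_lt a), (group_check a ha).1, f8_zero]
    rw [f8_mul b hb _ (invN_lt a), ← h3] at h2
    exact (mul_left_cancel h2).symm
  let φ : ↥R →* ↥(alternatingGroup (Fin 8)) :=
    MonoidHom.mk' (fun x => ⟨f8 (lb x), f8_even _ (hlb x)⟩) fun x y => Subtype.ext (by
      show f8 (lb (x * y)) = f8 (lb x) * f8 (lb y)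
      rw [← f8_mul _ (hlb y) _ (hlb x)]
      refine key _ _ (hlb _) (mulN_lt _ _) ?_
      rw [hp, hom _ _ (hlb x) (hlb y), hp, hp]
      rfl)
  have hinj : Function.Injective φ := by
    intro x y h
    have h' : f8 (lb x) = f8 (lb y) := congrArg Subtype.val h
    apply Subtype.ext
    rw [← hp x, ← hp y]
    have h1 : f8 (mulN (invN (lb x)) (lb y)) = 1 := by
      rw [f8_mul _ (hlb y) _ (invN_lt _), ← h', ← f8_mul _ (hlb x) _ (invN_lt _), (group_check _ (hlb x)).1, f8_zero]
    have h2 := (hker _ (mulN_lt _ _)).2 ((f8_eq_one_iff (mulN_lt _ _)).1 h1)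
    have h3 : p (invN (lb x)) * p (lb x) = 1 := by
      rw [← hom _ _ (invN_lt _) (hlb x), (group_check _ (hlb x)).1]
      exact (hker 0 (by omega)).2 rfl
    rw [hom _ _ (invN_lt _) (hlb y), ← h3] at h2
    exact (mul_left_cancel h2).symm
  have hreps : ((Finset.range 128).filter fun a => decide (a ≤ mulN a 2)).card = 64 := by decide +kernel
  have hlow : ∀ a < 128, a ≤ mulN a 2 ∨ mulN a 2 ≤ mulN (mulN a 2) 2 := by decide +kernel
  have hsep : ∀ a < 128, ∀ b < 128, a ≤ mulN a 2 → b ≤ mulN b 2 → zc (mulN (invN a) b) = true → a = b := by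
    decide +kernel
  have hcard : Nat.card R = 64 := by
    rw [← hreps, ← Nat.card_eq_finsetCard]
    have hp2 : ∀ a, a < 128 → p (mulN a 2) = p a := fun a ha => by
      rw [hom a 2 ha (by omega), (hker 2 (by omega)).2 rfl, mul_one]
    refine (Nat.card_congr (Equiv.ofBijective
      (fun a : ((Finset.range 128).filter fun a => decide (a ≤ mulN a 2)) =>
        (⟨p a.1, (hmem _).2 ⟨a.1, Finset.mem_range.1 (Finset.mem_filter.1 a.2).1, rfl⟩⟩ : R)) ⟨?_, ?_⟩)).symm
    · intro a b h
      have ha := Finset.mem_range.1 (Finset.mem_filter.1 a.2).1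
      have hb := Finset.mem_range.1 (Finset.mem_filter.1 b.2).1
      refine Subtype.ext (hsep _ ha _ hb (of_decide_eq_true (Finset.mem_filter.1 a.2).2)
        (of_decide_eq_true (Finset.mem_filter.1 b.2).2) ((hker _ (mulN_lt _ _)).1 ?_))
      rw [hom _ _ (invN_lt _) hb, ← show p a.1 = p b.1 from congrArg Subtype.val h, ← hom _ _ (invN_lt _) ha,
        (group_check _ ha).1]
      exact (hker 0 (by omega)).2 rfl
    · intro x
      rcases hlow _ (hlb x) with e | e
      · exact ⟨⟨lb x, Finset.mem_filter.2 ⟨Finset.mem_range.2 (hlb x), decide_eq_true e⟩⟩, Subtype.ext (hp x)⟩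
      · exact ⟨⟨mulN (lb x) 2, Finset.mem_filter.2 ⟨Finset.mem_range.2 (mulN_lt _ _), decide_eq_true e⟩⟩,
          Subtype.ext ((hp2 _ (hlb x)).trans (hp x))⟩
  refine ⟨hcard, ?_⟩
  have hr : Nat.card φ.range = 64 := by
    rw [← hcard]
    exact (Nat.card_congr (MonoidHom.ofInjective hinj).toEquiv).symm
  have hc : Nat.card φ.range = 2 ^ (Nat.card ↥(alternatingGroup (Fin 8))).factorization 2 := by
    have h6 : (20160 : ℕ).factorization 2 = 6 := by
      rw [show (20160 : ℕ) = 2 ^ 6 * 315 from rfl, Nat.factorization_mul (by norm_num) (by norm_num),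
        Finsupp.add_apply, Nat.Prime.factorization_pow Nat.prime_two, Finsupp.single_eq_same,
        Nat.factorization_eq_zero_of_not_dvd (by norm_num : ¬ 2 ∣ 315)]
    have h8 : Nat.card ↥(alternatingGroup (Fin 8)) = 20160 := by
      rw [nat_card_alternatingGroup, Nat.card_eq_fintype_card, Fintype.card_fin]
      rfl
    rw [hr, h8, h6]
    norm_num
  exact ⟨Sylow.ofCard φ.range hc, ⟨(MonoidHom.ofInjective hinj).trans
    (MulEquiv.subgroupCongr (Sylow.coe_ofCard φ.range hc).symm)⟩⟩

end Cfsg.Agent.J2Type
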