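import Cfsg.Agent.Lib.J2Type.Outside
import Mathlib.Algebra.Group.Conj

/-!
Modulo the central involution there are exactly three classes of involutions.
-/

set_option autoImplicit false
set_option linter.style.haveILetI false
set_option maxRecDepth 8000

namespace Cfsg.Agent.J2Type

variable {H : Type*} [Group H] {f : ℕ → H}

namespace Cen

variable (D : Cen f)
include D

omit D in
theorem alt_pair : ∀ i j : Fin 5, i ≠ j →
    ∃ σ : alternatingGroup (Fin 5), (σ : Equiv.Perm (Fin 5)) i = 0 ∧ (σ : Equiv.Perm (Fin 5)) j = 1 := by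
  decide +kernel

omit D in
theorem alt_act4 : ∀ σ ∈ act4, σ ≠ 1 → ∀ τ ∈ act4, τ ≠ 1 →
    ∃ g : alternatingGroup (Fin 5), (g : Equiv.Perm (Fin 5)) * σ * (g : Equiv.Perm (Fin 5))⁻¹ = τ := by
  decide +kernel

omit D in
theorem act4_group : (1 : Equiv.Perm (Fin 5)) ∈ act4 ∧
    ∀ σ ∈ act4, σ⁻¹ = σ ∧ ∀ τ ∈ act4, σ * τ ∈ act4 ∧ σ * τ = τ * σ := by decide +kernel

theorem sim_sq {x y : H} (h : Sim f x y) : y * y = x * x := by
  rcases h with rfl | rfl
  · rfl
  · calc x * f 2 * (x * f 2) = x * (f 2 * x) * f 2 := by group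
      _ = x * x * (f 2 * f 2) := by rw [← D.central x]; group
      _ = x * x := by rw [D.z_sq, mul_one]

theorem conj_z (g : H) : g * f 2 * g⁻¹ = f 2 := by rw [D.central, mul_inv_cancel_right]

theorem pair_facts : f (pt 0) * f (pt 1) * (f (pt 0) * f (pt 1)) = f 2 := by
  have h0 := (pt_facts (0 : Fin 5)).2.1
  have h1 := (pt_facts (1 : Fin 5)).2.1
  simp only [Fin.val_zero, Fin.val_one] at h0 h1
  rw [← D.emb.hom _ _ h0 h1, ← D.emb.hom _ _ (mulN_lt _ _) (mulN_lt _ _),
    (q_pair_sq 0 (by omega) 1 (by omega) (by omega)).1]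

omit D in
/-- The representative of the outside involutions. -/
theorem rep_facts : inQ 26 = false ∧ mulN 26 26 = 0 ∧ zc 26 = false := by decide +kernel

theorem act_rep_ne : D.act (D.lab 26 (by omega)) ≠ 1 := fun h => by
  have h1 := D.act_lab_eq_one 26 (by omega) h
  rw [rep_facts.1] at h1
  exact Bool.false_ne_true h1

/-- The classes are distinct. -/
theorem classes_ne (g : H) : ¬ Sim f (f (pt 0) * f (pt 1)) (g * f 1 * g⁻¹) ∧
    ¬ Sim f (f (pt 0) * f (pt 1)) (g * f 26 * g⁻¹) := by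
  have key : ∀ a, a < 128 → mulN a a = 0 → ¬ Sim f (f (pt 0) * f (pt 1)) (g * f a * g⁻¹) := by
    intro a ha h2 h
    have h1 := D.sim_sq h
    rw [D.pair_facts, show g * f a * g⁻¹ * (g * f a * g⁻¹) = g * (f a * f a) * g⁻¹ by group,
      (D.emb.sq_one_iff ha).2 h2, mul_one, mul_inv_cancel] at h1
    exact D.z_ne h1.symm
  exact ⟨key 1 (by omega) u_facts.1, key 26 (by omega) rep_facts.2.1⟩

variable [Finite H]

/-- Every element whose square is central, outside the centre, is conjugate to a representative. -/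
theorem exists_rep {h : H} (h2 : Sim f 1 (h * h)) (hne : ¬ Sim f 1 h) :
    ∃ g : H, Sim f (f 1) (g * h * g⁻¹) ∨ Sim f (f (pt 0) * f (pt 1)) (g * h * g⁻¹) ∨
      Sim f (f 26) (g * h * g⁻¹) := by
  classical
  haveI : Fact (Nat.Prime 2) := ⟨Nat.prime_two⟩
  have h4 : h ^ 4 = 1 := by
    have := D.sim_sq h2
    rw [one_mul] at this
    rw [show h ^ 4 = h * h * (h * h) by simp only [pow_succ, pow_zero, one_mul, mul_assoc], this]
  have hP : IsPGroup 2 (Subgroup.zpowers h) := by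
    obtain ⟨k, -, hk⟩ := (Nat.dvd_prime_pow Nat.prime_two).1
      (show orderOf h ∣ 2 ^ 2 from orderOf_dvd_of_pow_eq_one h4)
    exact IsPGroup.of_card (by rw [Nat.card_zpowers, hk])
  obtain ⟨k, hk⟩ := D.emb.exists_conj_le D.odd hP
  obtain ⟨a, ha, ea⟩ := hk h (Subgroup.mem_zpowers h)
  suffices hs : ∃ g : H, Sim f (f 1) (g * f a * g⁻¹) ∨ Sim f (f (pt 0) * f (pt 1)) (g * f a * g⁻¹) ∨
      Sim f (f 26) (g * f a * g⁻¹) by
    obtain ⟨g, hg⟩ := hs
    refine ⟨g * k, ?_⟩
    rwa [show g * k * h * (g * k)⁻¹ = g * (k * h * k⁻¹) * g⁻¹ by group, ← ea]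
  have ha2 : zc (mulN a a) = true := by
    rw [← D.sim_one (mulN_lt _ _), D.emb.hom a a ha ha, ea]
    have := D.sim_conj k h2
    rwa [show k * 1 * k⁻¹ = 1 by group, show k * (h * h) * k⁻¹ = k * h * k⁻¹ * (k * h * k⁻¹) by group] at this
  have hane : ¬ Sim f 1 (f a) := fun e => hne (by
    rw [ea] at e
    have := D.sim_conj k⁻¹ e
    rwa [show k⁻¹ * 1 * k⁻¹⁻¹ = 1 by group, show k⁻¹ * (k * h * k⁻¹) * k⁻¹⁻¹ = h by group] at this)
  cases hq : inQ a
  · -- outside
    obtain ⟨φ, hsurj, hφ⟩ := D.exists_phi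
    have hσne : D.act (D.lab a ha) ≠ 1 := fun e => by
      have := D.act_lab_eq_one a ha e
      rw [hq] at this
      exact Bool.false_ne_true this
    obtain ⟨γ, hγ⟩ := alt_act4 _ (D.act_lab a ha) hσne _ (D.act_lab 26 (by omega)) D.act_rep_ne
    obtain ⟨n, rfl⟩ := hsurj γ
    rw [hφ] at hγ
    let V : Subgroup (Equiv.Perm (Fin 5)) :=
      { carrier := {σ | σ ∈ act4}
        one_mem' := act4_group.1
        mul_mem' := fun {σ τ} hσ hτ => ((act4_group.2 σ hσ).2 τ hτ).1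
        inv_mem' := fun {σ} hσ => by rw [Set.mem_setOf_eq, (act4_group.2 σ hσ).1]; exact hσ }
    set M := (V.comap D.act).map (Subgroup.normalizer (D.qs : Set H)).subtype
    have hRM : D.emb.range ≤ M := by
      rintro _ ⟨b, hb, rfl⟩
      exact ⟨D.lab b hb, D.act_lab b hb, rfl⟩
    set w := (n : H) * f a * (n : H)⁻¹
    have hwact : D.act (n * D.lab a ha * n⁻¹) = D.act (D.lab 26 (by omega)) := by
      rw [map_mul, map_mul, map_inv, hγ]
    have hwM : w ∈ M := ⟨n * D.lab a ha * n⁻¹, by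
      show D.act _ ∈ act4
      rw [hwact]
      exact D.act_lab 26 (by omega), rfl⟩
    have hW : IsPGroup 2 (Subgroup.zpowers w) := by
      have ha4 : orderOf w ∣ 2 ^ 2 := by
        refine orderOf_dvd_of_pow_eq_one ?_
        rw [conj_pow, ea, conj_pow, show (2 : ℕ) ^ 2 = 4 from rfl, h4]
        group
      obtain ⟨k', -, hk'⟩ := (Nat.dvd_prime_pow Nat.prime_two).1 ha4
      exact IsPGroup.of_card (by rw [Nat.card_zpowers, hk'])
    obtain ⟨m, hm, hmk⟩ := D.exists_conj_mem hRM hW ((Subgroup.zpowers_le).2 hwM)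
    obtain ⟨b, hb, eb⟩ := hmk w (Subgroup.mem_zpowers w)
    obtain ⟨m', hm', rfl⟩ := hm
    have hbact : D.act (D.lab b hb) = D.act (D.lab 26 (by omega)) := by
      have e : D.lab b hb = m' * (n * D.lab a ha * n⁻¹) * m'⁻¹ := Subtype.ext eb
      rw [e, map_mul, map_mul, map_inv, hwact, ((act4_group.2 _ hm').2 _ (D.act_lab 26 (by omega))).2,
        mul_inv_cancel_right]
    have hbQ : inQ (mulN (invN 26) b) = true := by
      refine D.act_lab_eq_one _ (mulN_lt _ _) ?_
      have e : D.lab (mulN (invN 26) b) (mulN_lt _ _) = (D.lab 26 (by omega))⁻¹ * D.lab b hb := Subtype.ext (by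
        show f (mulN (invN 26) b) = (f 26)⁻¹ * f b
        rw [D.emb.hom _ _ (invN_lt _) hb, D.emb.inv (by omega)])
      rw [e, map_mul, map_inv, hbact, inv_mul_cancel]
    have hb2 : zc (mulN b b) = true := by
      rw [← D.sim_one (mulN_lt _ _), D.emb.hom b b hb hb, eb]
      have h1 : Sim f 1 (f a * f a) := by
        rw [← D.emb.hom a a ha ha, D.sim_one (mulN_lt _ _)]; exact ha2
      have h2' := D.sim_conj ((m' : H) * n) h1
      rwa [show (m' : H) * n * 1 * ((m' : H) * n)⁻¹ = 1 by group,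
        show (m' : H) * n * (f a * f a) * ((m' : H) * n)⁻¹ =
          (m' : H) * w * (m' : H)⁻¹ * ((m' : H) * w * (m' : H)⁻¹) by simp only [w]; group] at h2'
    obtain ⟨s, hs, hsb⟩ := out_cosets 26 (by omega) b hb rep_facts.1 (by rw [rep_facts.2.1]; rfl) hbQ hb2
    refine ⟨(f s)⁻¹ * (m' : H) * n, Or.inr (Or.inr ?_)⟩
    have h26 : Sim f (f s * f 26 * (f s)⁻¹) (f b) := by
      rw [← D.emb.conj hs (by omega), D.sim_label (show cj s 26 < 128 from mulN_lt _ _) hb]
      rcases hsb with e | e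
      · exact Or.inl e.symm
      · refine Or.inr ?_
        have hzz : ∀ y < 128, mulN (mulN y 2) 2 = y := by decide +kernel
        rw [e, hzz b hb]
    have h3 := D.sim_conj (f s)⁻¹ h26
    rw [inv_inv, show (f s)⁻¹ * (f s * f 26 * (f s)⁻¹) * f s = f 26 by group, eb] at h3
    rwa [show (f s)⁻¹ * (m' : H) * n * f a * ((f s)⁻¹ * (m' : H) * n)⁻¹ =
      (f s)⁻¹ * ((m' : H) * w * (m' : H)⁻¹) * f s by simp only [w]; group]
  · -- inside
    by_cases haa : mulN a a = 0
    · obtain ⟨i, hi⟩ := D.exists_point ((D.mem_qs ha).2 hq) ((D.emb.sq_one_iff ha).2 haa) hane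
      obtain ⟨n, hn⟩ := D.exists_act_five i
      refine ⟨n, Or.inl ?_⟩
      have h1 := D.act_spec n i
      rw [hn, show ((4 : Fin 5) : ℕ) = 4 from rfl, q_mem.2.2.2.2.2.2.1] at h1
      exact D.sim_trans h1 (D.sim_conj _ hi)
    · obtain ⟨i, hi, j, hj, hij, he⟩ := q_pair a ha hq haa
      obtain ⟨φ, hsurj, hφ⟩ := D.exists_phi
      obtain ⟨γ, hγi, hγj⟩ := alt_pair ⟨i, hi⟩ ⟨j, hj⟩ fun e => hij (congrArg Fin.val e)
      obtain ⟨n, rfl⟩ := hsurj γ
      rw [hφ] at hγi hγj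
      refine ⟨n, Or.inr (Or.inl ?_)⟩
      have hs : Sim f (f (pt i) * f (pt j)) (f a) := by
        have hpi := (pt_facts ⟨i, hi⟩).2.1
        have hpj := (pt_facts ⟨j, hj⟩).2.1
        rw [← D.emb.hom _ _ hpi hpj, D.sim_label (mulN_lt _ _) ha]
        exact he
      have h1 := D.act_spec n ⟨i, hi⟩
      have h2' := D.act_spec n ⟨j, hj⟩
      rw [hγi] at h1
      rw [hγj] at h2'
      simp only [Fin.val_zero, Fin.val_one] at h1 h2'
      refine D.sim_trans (D.sim_mul h1 h2') ?_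
      rw [show (n : H) * f (pt i) * (n : H)⁻¹ * ((n : H) * f (pt j) * (n : H)⁻¹) =
        (n : H) * (f (pt i) * f (pt j)) * (n : H)⁻¹ by group]
      exact D.sim_conj _ hs

end Cen

end Cfsg.Agent.J2Type
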