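import Cfsg.Agent.Lib.J3Uniq.LocalBase

/-!
The shape `2^{1+4}.A₅` with a chosen singular point, as delivered by the fusion analysis and consumed by the
uniqueness of the extension.
-/

set_option autoImplicit false

namespace Cfsg.Agent.J2Type

open Cfsg.Agent.HJ

/-- A group `2^{1+4}.A₅` with central involution `z`, an outside involution, and an involution `u` of `Q` whose point
stabiliser fixes the point `4`. -/
structure Frame {H : Type*} [Group H] (z u : H) (Q : Subgroup H) (φ : H →* A5) : Prop where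
  central : ∀ h : H, h * z = z * h
  zz : z * z = 1
  z1 : z ≠ 1
  zQ : z ∈ Q
  card : Nat.card Q = 32
  center : ∀ x ∈ Q, (∀ y ∈ Q, x * y = y * x) → x = 1 ∨ x = z
  comm : ∀ x ∈ Q, ∀ y ∈ Q, x * y = y * x ∨ x * y = y * x * z
  sq : ∀ x ∈ Q, x * x = 1 ∨ x * x = z
  self : ∀ h : H, (∀ x ∈ Q, h * x = x * h) → h ∈ Q
  surj : Function.Surjective φ
  ker : ∀ h, φ h = 1 ↔ h ∈ Q
  uQ : u ∈ Q
  uu : u * u = 1
  u1 : u ≠ 1
  uz : u ≠ z
  stab : ∀ h, ap (φ h) 4 = 4 → h * u * h⁻¹ = u ∨ h * u * h⁻¹ = u * z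
  outer : ∃ a : H, a * a = 1 ∧ a ∉ Q

end Cfsg.Agent.J2Type
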