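import Cfsg.Agent.Lib.A8Type.Main
import Cfsg.Agent.Lib.J2Type.Alt8
import Cfsg.Agent.Lib.J2Type.Classes
import Cfsg.Agent.Lib.J2Type.FrameDef
import Mathlib.GroupTheory.Transfer

/-!
The extraspecial subgroup is normal with quotient `A₅`: the quotient by the central involution has the Sylow type of
`A₈` and three classes of involutions.
-/

set_option autoImplicit false
set_option linter.style.haveILetI false
set_option maxRecDepth 8000

namespace Cfsg.Agent.J2Type

universe u

/-- A normal subgroup with a central Sylow 2-subgroup. -/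
theorem le_of_central_sylow {G : Type u} [Group G] [Finite G] {M P : Subgroup G} [M.Normal] (hPM : P ≤ M)
    (hP : IsPGroup 2 P) (hodd : ¬ 2 ∣ P.relIndex M) (hc : ∀ m ∈ M, ∀ p ∈ P, m * p = p * m) :
    M ≤ P ⊔ Cfsg.oddCore G := by
  haveI : Fact (Nat.Prime 2) := ⟨Nat.prime_two⟩
  have hP' : IsPGroup 2 ↥(P.subgroupOf M) := hP.comap_of_injective M.subtype M.subtype_injective
  set T : Sylow 2 M := hP'.toSylow hodd with hT
  have hT' : (T : Subgroup M) = P.subgroupOf M := IsPGroup.toSylow_coe _ _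
  have hnc : Subgroup.normalizer ((T : Subgroup M) : Set M) ≤ Subgroup.centralizer ((T : Subgroup M) : Set M) := by
    intro m _
    rw [Subgroup.mem_centralizer_iff]
    intro p hp
    rw [hT', SetLike.mem_coe, Subgroup.mem_subgroupOf] at hp
    exact Subtype.ext (hc m m.2 _ hp).symm
  have hcompl := MonoidHom.ker_transferSylow_isComplement' T hnc
  set K := (MonoidHom.transferSylow T hnc).ker
  have hK : K ≤ Cfsg.oddCore ↥M := by
    refine PBasic.le_pPrimeCore inferInstance ?_
    rw [← hcompl.index_eq_card, Nat.coprime_comm, Nat.prime_two.coprime_iff_not_dvd]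
    exact T.not_dvd_index
  intro x hx
  have hx' : (⟨x, hx⟩ : M) ∈ K ⊔ (T : Subgroup M) := by rw [hcompl.sup_eq_top]; trivial
  have hle : (K ⊔ (T : Subgroup M)).map M.subtype ≤ P ⊔ Cfsg.oddCore G := by
    rw [Subgroup.map_sup]
    refine sup_le ?_ ?_
    · exact ((Subgroup.map_mono hK).trans (PBasic.map_pPrimeCore_le_of_normal M)).trans le_sup_right
    · rw [hT']
      rintro _ ⟨p, hp, rfl⟩
      exact Subgroup.mem_sup_left (Subgroup.mem_subgroupOf.1 hp)
  exact hle ⟨⟨x, hx⟩, hx', rfl⟩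

theorem relIndex_ker_comap {G G' : Type*} [Group G] [Group G'] (π : G →* G') (hs : Function.Surjective π)
    (O : Subgroup G') : π.ker.relIndex (O.comap π) = Nat.card O := by
  rw [← MonoidHom.comap_bot, Subgroup.relIndex_comap, Subgroup.map_comap_eq_self_of_surjective hs,
    Subgroup.relIndex_bot_left]

variable {H : Type u} [Group H] {f : ℕ → H}

namespace Cen

/-- The centre. -/
def zsub (_D : Cen f) : Subgroup H := Subgroup.zpowers (f 2)

variable (D : Cen f)
include D

theorem mem_zsub {x : H} : x ∈ D.zsub ↔ Sim f 1 x := by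
  constructor
  · rintro ⟨k, rfl⟩
    rcases Int.even_or_odd k with ⟨m, rfl⟩ | ⟨m, rfl⟩
    · refine Or.inl ?_
      show f 2 ^ (m + m) = 1
      rw [← two_mul, zpow_mul, zpow_two, D.z_sq, one_zpow]
    · refine Or.inr ?_
      show f 2 ^ (2 * m + 1) = 1 * f 2
      rw [zpow_add_one, zpow_mul, zpow_two, D.z_sq, one_zpow]
  · rintro (rfl | rfl)
    · exact one_mem _
    · rw [one_mul]; exact Subgroup.mem_zpowers _

theorem zsub_normal : D.zsub.Normal := by
  refine ⟨fun x hx g => ?_⟩
  rw [D.mem_zsub] at hx ⊢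
  have := D.sim_conj g hx
  rwa [show g * 1 * g⁻¹ = 1 by group] at this

theorem zsub_le_qs : D.zsub ≤ D.qs := by
  rw [Cen.zsub, Subgroup.zpowers_le]
  exact (D.mem_qs (by omega)).2 q_mem.2.2.1

theorem card_zsub : Nat.card D.zsub = 2 := by
  rw [Cen.zsub, Nat.card_zpowers]
  exact orderOf_eq_prime (by rw [pow_two]; exact D.z_sq) D.z_ne

/-- Kernel elements fix the extraspecial subgroup up to the centre. -/
theorem fix_qs {n : ↥(Subgroup.normalizer (D.qs : Set H))} (hn : D.act n = 1) {x : H} (hx : x ∈ D.qs) :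
    Sim f x ((n : H) * x * (n : H)⁻¹) := by
  have hp : ∀ i, i < 5 → Sim f (f (pt i)) ((n : H) * f (pt i) * (n : H)⁻¹) := fun i hi => by
    have h := D.act_spec n ⟨i, hi⟩
    rwa [hn, Equiv.Perm.one_apply] at h
  have hc : ∀ y ∈ D.zsub, Sim f y ((n : H) * y * (n : H)⁻¹) := fun y hy => by
    rcases D.mem_zsub.1 hy with rfl | rfl
    · exact Or.inl (by group)
    · exact Or.inl (by rw [one_mul, D.conj_z])
  have hS : ∀ y : H, Sim f y ((n : H) * y * (n : H)⁻¹) → Sim f (y * f 2) ((n : H) * (y * f 2) * (n : H)⁻¹) :=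
    fun y hy => by
      rw [show (n : H) * (y * f 2) * (n : H)⁻¹ = (n : H) * y * (n : H)⁻¹ * ((n : H) * f 2 * (n : H)⁻¹) by group,
        D.conj_z]
      exact D.sim_mul hy (sim_refl _)
  obtain ⟨a, ha, hqa, rfl⟩ := hx
  obtain ⟨-, e | e | ⟨i, hi, e | e⟩ | ⟨i, hi, j, hj, e | e⟩⟩ := q_gen_closed a ha hqa
  · rw [e, D.emb.one]; exact hc 1 (one_mem _)
  · rw [e]; exact hc _ (Subgroup.mem_zpowers _)
  · rw [e]; exact hp i hi
  · rw [e, D.emb.hom _ _ (pt_facts ⟨i, hi⟩).2.1 (by omega)]; exact hS _ (hp i hi)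
  all_goals
    have hij : Sim f (f (pt i) * f (pt j)) ((n : H) * (f (pt i) * f (pt j)) * (n : H)⁻¹) := by
      rw [show (n : H) * (f (pt i) * f (pt j)) * (n : H)⁻¹ =
        (n : H) * f (pt i) * (n : H)⁻¹ * ((n : H) * f (pt j) * (n : H)⁻¹) by group]
      exact D.sim_mul (hp i hi) (hp j hj)
    rw [← D.emb.hom _ _ (pt_facts ⟨i, hi⟩).2.1 (pt_facts ⟨j, hj⟩).2.1] at hij
    rw [e]
  · exact hij
  · rw [D.emb.hom _ 2 (mulN_lt _ _) (by omega)]; exact hS _ hij

variable [Finite H]

open Classical in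
/-- The extraspecial subgroup is normal. -/
theorem qs_normal : D.qs.Normal := by
  haveI : Fact (Nat.Prime 2) := ⟨Nat.prime_two⟩
  haveI := D.zsub_normal
  set π := QuotientGroup.mk' D.zsub with hπdef
  have hπs : Function.Surjective π := QuotientGroup.mk'_surjective _
  have hπ : ∀ x y, π x = π y ↔ Sim f x y := by
    intro x y
    rw [hπdef, QuotientGroup.mk'_apply, QuotientGroup.mk'_apply, QuotientGroup.eq, D.mem_zsub]
    constructor
    · intro h
      have := D.sim_mul (sim_refl (f := f) x) h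
      rwa [mul_one, mul_inv_cancel_left] at this
    · intro h
      have := D.sim_mul (sim_refl (f := f) x⁻¹) h
      rwa [inv_mul_cancel] at this
  have hπ1 : ∀ x, π x = 1 ↔ Sim f 1 x := fun x => by rw [← map_one π, eq_comm, hπ]
  -- the Sylow subgroup
  obtain ⟨hc64, P, hP⟩ := exists_alt_equiv (R := D.emb.range.map π) (p := fun a => π (f a))
    (fun x => ⟨fun ⟨_, ⟨a, ha, e⟩, e'⟩ => ⟨a, ha, e ▸ e'⟩, fun ⟨a, ha, e⟩ => ⟨f a, D.emb.apply_mem ha, e⟩⟩)
    (fun a b ha hb => by simp only [D.emb.hom a b ha hb, map_mul])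
    (fun a ha => (hπ1 _).trans (D.sim_one ha))
  have hSodd : ¬ 2 ∣ (D.emb.range.map π).index :=
    fun h => D.odd (h.trans (Subgroup.index_map_dvd D.emb.range hπs))
  set SX := (D.emb.isPGroup_range.map π).toSylow hSodd with hSX
  have hSX' : (SX : Subgroup _) = D.emb.range.map π := IsPGroup.toSylow_coe _ _
  -- the three classes
  have hinv : ∀ h : H, orderOf (π h) = 2 ↔ Sim f 1 (h * h) ∧ ¬ Sim f 1 h := by
    intro h
    rw [orderOf_eq_prime_iff, pow_two, ← map_mul, hπ1, ne_eq, hπ1]
  have h26 := D.classes_ne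
  have hconj : ∀ x y : H, IsConj (π x) (π y) → ∃ g, Sim f x (g * y * g⁻¹) := by
    intro x y h
    obtain ⟨c, hc⟩ := isConj_iff.1 h.symm
    obtain ⟨g, rfl⟩ := hπs c
    refine ⟨g, (hπ _ _).1 ?_⟩
    rw [map_mul, map_mul, map_inv, hc]
  have h3 : Nat.card {c : ConjClasses (H ⧸ D.zsub) // ∃ x ∈ c.carrier, orderOf x = 2} = 3 := by
    refine (Nat.card_coe_set_eq {c : ConjClasses (H ⧸ D.zsub) | ∃ x ∈ c.carrier, orderOf x = 2}).trans ?_
    rw [Set.ncard_eq_three]
    refine ⟨ConjClasses.mk (π (f 1)), ConjClasses.mk (π (f (pt 0) * f (pt 1))), ConjClasses.mk (π (f 26)),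
      ?_, ?_, ?_, ?_⟩
    · intro e
      obtain ⟨g, hg⟩ := hconj _ _ (ConjClasses.mk_eq_mk_iff_isConj.1 e.symm)
      exact (h26 g).1 hg
    · intro e
      obtain ⟨g, hg⟩ := hconj _ _ (ConjClasses.mk_eq_mk_iff_isConj.1 e)
      exact D.outside_not_point (by omega) rep_facts.1 (by rw [rep_facts.2.1]; rfl) g hg
    · intro e
      obtain ⟨g, hg⟩ := hconj _ _ (ConjClasses.mk_eq_mk_iff_isConj.1 e)
      exact (h26 g).2 hg
    · ext c
      simp only [Set.mem_setOf_eq, Set.mem_insert_iff, Set.mem_singleton_iff, ConjClasses.mem_carrier_iff_mk_eq]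
      constructor
      · rintro ⟨x, rfl, hx⟩
        obtain ⟨h, rfl⟩ := hπs x
        obtain ⟨h2, hne⟩ := (hinv h).1 hx
        obtain ⟨g, hg⟩ := D.exists_rep h2 hne
        have key : ∀ r, Sim f r (g * h * g⁻¹) → ConjClasses.mk (π h) = ConjClasses.mk (π r) := fun r hr => by
          rw [ConjClasses.mk_eq_mk_iff_isConj, (hπ _ _).2 hr, map_mul, map_mul, map_inv]
          exact isConj_iff.2 ⟨π g, rfl⟩
        exact hg.imp (key _) (Or.imp (key _) (key _))
      · rintro (rfl | rfl | rfl)
        · refine ⟨_, rfl, (hinv _).2 ⟨Or.inl ((D.emb.sq_one_iff (by omega)).2 u_facts.1), fun h => ?_⟩⟩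
          exact absurd ((D.sim_one (by omega)).1 h) (by decide)
        · refine ⟨_, rfl, (hinv _).2 ⟨Or.inr (by rw [D.pair_facts, one_mul]), fun h => D.z_ne ?_⟩⟩
          rw [← D.pair_facts, D.sim_sq h, one_mul]
        · refine ⟨_, rfl, (hinv _).2 ⟨Or.inl ((D.emb.sq_one_iff (by omega)).2 rep_facts.2.1), fun h => ?_⟩⟩
          exact absurd ((D.sim_one (by omega)).1 h) (by decide)
  -- the elementary abelian subgroup
  set A := D.qs.map π with hAdef
  have hcomap : A.comap π = D.qs :=
    Subgroup.comap_map_eq_self ((QuotientGroup.ker_mk' D.zsub).le.trans D.zsub_le_qs)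
  have hA : Cfsg.IsElementaryAbelian 2 A := by
    refine ⟨⟨⟨?_⟩⟩, ?_⟩
    · rintro ⟨_, a, ha, rfl⟩ ⟨_, b, hb, rfl⟩
      refine Subtype.ext ?_
      show π a * π b = π b * π a
      rw [← map_mul, ← map_mul]
      refine ((hπ _ _).2 ?_).symm
      have h := D.sim_mul ((D.flat_qs a ha).2 b hb) (sim_refl (f := f) a)
      rwa [inv_mul_cancel_right] at h
    · rintro _ ⟨a, ha, rfl⟩
      rw [pow_two, ← map_mul, hπ1]
      exact (D.flat_qs a ha).1
  have hA16 : Nat.card A = 16 := by
    have h := (π.comp D.qs.subtype).ker.card_mul_index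
    have hk : (π.comp D.qs.subtype).ker = D.zsub.subgroupOf D.qs := by
      rw [← MonoidHom.comap_ker, QuotientGroup.ker_mk']; rfl
    rw [Subgroup.index_ker, MonoidHom.range_comp, Subgroup.range_subtype, hk,
      Nat.card_congr (Subgroup.subgroupOfEquivOfLe D.zsub_le_qs).toEquiv, D.card_zsub, D.card_qs] at h
    rw [hAdef]; omega
  -- the automiser
  have hNX : (Subgroup.normalizer (A : Set (H ⧸ D.zsub))).comap π = Subgroup.normalizer (D.qs : Set H) := by
    rw [Subgroup.comap_normalizer_eq_of_surjective _ hπs, hcomap]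
  set N := Subgroup.normalizer (D.qs : Set H)
  set NX := Subgroup.normalizer (A : Set (H ⧸ D.zsub))
  let πN : ↥N →* ↥NX := (π.comp N.subtype).codRestrict NX fun n => by
    have h : (n : H) ∈ NX.comap π := by rw [hNX]; exact n.2
    exact h
  have hπN : Function.Surjective πN := by
    rintro ⟨x, hx⟩
    obtain ⟨h, rfl⟩ := hπs x
    exact ⟨⟨h, by rw [← hNX]; exact hx⟩, Subtype.ext rfl⟩
  obtain ⟨φ, hsurj, hφ⟩ := D.exists_phi
  have hφker : ∀ n, φ n = 1 ↔ D.act n = 1 := fun n => by
    rw [← hφ n]; exact ⟨fun h => by rw [h]; rfl, fun h => Subtype.ext h⟩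
  have hkerle : πN.ker ≤ φ.ker := by
    intro n hn
    have h1 : Sim f 1 (n : H) := (hπ1 _).1 (congrArg Subtype.val hn)
    exact (hφker n).2 (D.act_qs (D.zsub_le_qs (D.mem_zsub.2 h1)))
  set φX := (MonoidHom.liftOfSurjective πN hπN) ⟨φ, hkerle⟩
  have hφX : ∀ n, φX (πN n) = φ n := fun n =>
    MonoidHom.liftOfRightInverse_comp_apply πN _ (Function.rightInverse_surjInv hπN) ⟨φ, hkerle⟩ n
  have hφXs : Function.Surjective φX := fun γ => by
    obtain ⟨n, rfl⟩ := hsurj γ
    exact ⟨πN n, hφX n⟩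
  have hAk : A.subgroupOf NX ≤ φX.ker := by
    intro y hy
    obtain ⟨n, rfl⟩ := hπN y
    have hn : (n : H) ∈ D.qs := by
      rw [← hcomap]; exact hy
    rw [MonoidHom.mem_ker, hφX, hφker]
    exact D.act_qs hn
  haveI : IsSimpleGroup (alternatingGroup (Fin 5)) := alternatingGroup.isSimpleGroup (by simp)
  have hcA5 : Nat.card (alternatingGroup (Fin 5)) = 60 := HJ.card_A5
  have hker : φX.ker = A.subgroupOf NX ⊔ Cfsg.oddCore ↥NX := by
    refine le_antisymm ?_ (sup_le hAk ?_)
    · refine le_of_central_sylow hAk ?_ ?_ ?_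
      · exact IsPGroup.of_card (n := 4) (by
          rw [Nat.card_congr (Subgroup.subgroupOfEquivOfLe Subgroup.le_normalizer).toEquiv, hA16]; norm_num)
      · have hSNX : D.emb.range.map π ≤ NX := by
          rintro _ ⟨s, hs, rfl⟩
          have h : s ∈ NX.comap π := by rw [hNX]; exact D.range_le_normalizer hs
          exact h
        set S' := (D.emb.range.map π).subgroupOf NX
        have hAS : A.subgroupOf NX ≤ S' := Subgroup.comap_mono (Subgroup.map_mono D.qs_le)
        have hS'odd : ¬ 2 ∣ S'.index := fun h => hSodd (h.trans (Subgroup.relIndex_dvd_index_of_le hSNX))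
        have e1 := Subgroup.relIndex_mul_index hAk
        rw [Subgroup.index_ker, MonoidHom.range_eq_top.2 hφXs, Subgroup.card_top, hcA5] at e1
        have e2 := Subgroup.relIndex_mul_index hAS
        have e3 : (A.subgroupOf NX).relIndex S' = 4 := by
          have h := PBasic.card_mul_relIndex hAS
          rw [Nat.card_congr (Subgroup.subgroupOfEquivOfLe Subgroup.le_normalizer).toEquiv, hA16,
            Nat.card_congr (Subgroup.subgroupOfEquivOfLe hSNX).toEquiv, hc64] at h
          omega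
        rw [e3, ← e1] at e2
        omega
      · intro m hm p hp
        obtain ⟨n, rfl⟩ := hπN m
        obtain ⟨q, rfl⟩ := hπN p
        have hq : (q : H) ∈ D.qs := by rw [← hcomap]; exact hp
        rw [MonoidHom.mem_ker, hφX, hφker] at hm
        refine Subtype.ext ?_
        show π n * π q = π q * π n
        rw [← map_mul, ← map_mul]
        refine ((hπ _ _).2 ?_).symm
        have h := D.sim_mul (D.fix_qs hm hq) (sim_refl (f := f) (n : H))
        rwa [inv_mul_cancel_right] at h
    · intro y hy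
      set M := (Cfsg.oddCore ↥NX).map φX
      rcases IsSimpleGroup.eq_bot_or_eq_top_of_normal M ((Cfsg.pPrimeCore_normal 2 _).map _ hφXs) with h | h
      · rw [MonoidHom.mem_ker, ← Subgroup.mem_bot, ← h]
        exact ⟨y, hy, rfl⟩
      · exfalso
        have hd := Subgroup.card_map_dvd (Cfsg.oddCore ↥NX) φX
        rw [show Nat.card ↥((Cfsg.oddCore ↥NX).map φX) = 60 by rw [show (Cfsg.oddCore ↥NX).map φX = ⊤ from h, Subgroup.card_top, hcA5]] at hd
        have h2 := Nat.Coprime.coprime_dvd_left hd (PBasic.pPrimeCore_coprime 2 ↥NX)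
        norm_num at h2
  have hnorm := A8Type.normal_of_hyps SX P ⟨(MulEquiv.subgroupCongr hSX').trans hP.some⟩ h3 A hA hA16 φX hφXs hker
  -- the odd core of the quotient is trivial
  have hO : Cfsg.oddCore (H ⧸ D.zsub) = ⊥ := by
    set O := Cfsg.oddCore (H ⧸ D.zsub)
    haveI : O.Normal := Cfsg.pPrimeCore_normal 2 _
    have hle : D.zsub ≤ O.comap π := fun x hx => by
      rw [Subgroup.mem_comap, (hπ1 x).2 (D.mem_zsub.1 hx)]; exact one_mem _
    have h := le_of_central_sylow (M := O.comap π) hle (IsPGroup.of_card (n := 1) (by rw [D.card_zsub]; rfl)) ?_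
      fun m _ p hp => ?_
    · rw [D.core, sup_bot_eq] at h
      rw [eq_bot_iff]
      intro x hx
      obtain ⟨y, rfl⟩ := hπs x
      exact Subgroup.mem_bot.2 ((hπ1 y).2 (D.mem_zsub.1 (h hx)))
    · have e : D.zsub.relIndex (O.comap π) = Nat.card O :=
        (congrArg (fun K => Subgroup.relIndex K (O.comap π)) (QuotientGroup.ker_mk' D.zsub).symm).trans
          (relIndex_ker_comap π hπs O)
      rw [e, ← Nat.prime_two.coprime_iff_not_dvd, Nat.coprime_comm]
      exact PBasic.pPrimeCore_coprime 2 _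
    · rcases D.mem_zsub.1 hp with rfl | rfl
      · rw [mul_one, one_mul]
      · rw [one_mul]; exact D.central m
  rw [hO, sup_bot_eq] at hnorm
  rw [← hcomap]
  exact hnorm.comap π

/-- The centraliser of the extraspecial subgroup is the centre. -/
theorem centralizer_le {c : H} (hc : ∀ x ∈ D.qs, c * x = x * c) : c ∈ D.zsub := by
  haveI : Fact (Nat.Prime 2) := ⟨Nat.prime_two⟩
  haveI := D.qs_normal
  set C := Subgroup.centralizer (D.qs : Set H)
  haveI : C.Normal := Subgroup.normal_centralizer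
  haveI := D.zsub_normal
  have hle : D.zsub ≤ C := by
    rw [Cen.zsub, Subgroup.zpowers_le, Subgroup.mem_centralizer_iff]
    exact fun x _ => D.central x
  have hS : D.emb.range ⊓ C = D.zsub := by
    refine le_antisymm ?_ (le_inf (D.zsub_le_qs.trans D.qs_le) hle)
    rintro _ ⟨⟨a, ha, rfl⟩, hC⟩
    replace hC : ∀ y ∈ (D.qs : Set H), y * f a = f a * y := Subgroup.mem_centralizer_iff.1 hC
    have hzc : ∀ i, i < 5 → mulN a (pt i) = mulN (pt i) a := fun i hi => by
      rw [← D.emb.commute_iff ha (pt_facts ⟨i, hi⟩).2.1]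
      exact (hC _ (D.point_mem ⟨i, hi⟩)).symm
    rw [D.mem_zsub, D.sim_one ha]
    refine q_centre a ha (q_self a ha fun i hi => ?_) hzc
    rw [← D.sim_cm ha (pt_facts ⟨i, hi⟩).2.1, ← hC _ (D.point_mem ⟨i, hi⟩), mul_inv_cancel_right]
    exact sim_refl _
  have hodd : ¬ 2 ∣ D.zsub.relIndex C := by
    rw [← hS, Subgroup.inf_relIndex_right, PBasic.relIndex_eq_relIndex_sup]
    exact fun h => D.odd (h.trans (Subgroup.relIndex_dvd_index_of_le le_sup_right))
  have h := le_of_central_sylow hle (IsPGroup.of_card (n := 1) (by rw [D.card_zsub]; rfl)) hodd fun m _ p hp => by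
    rcases D.mem_zsub.1 hp with rfl | rfl
    · rw [mul_one, one_mul]
    · rw [one_mul]; exact D.central m
  rw [D.core, sup_bot_eq] at h
  exact h (Subgroup.mem_centralizer_iff.2 fun x hx => (hc x hx).symm)

/-- The shape `2^{1+4}.A₅`. -/
theorem exists_frame : ∃ φ : H →* HJ.A5, Frame (f 2) (f 1) D.qs φ := by
  haveI : Fact (Nat.Prime 2) := ⟨Nat.prime_two⟩
  haveI := D.qs_normal
  have hN : Subgroup.normalizer (D.qs : Set H) = ⊤ := Subgroup.normalizer_eq_top_iff.2 inferInstance
  obtain ⟨φ, hsurj, hφ⟩ := D.exists_phi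
  let ι : H →* ↥(Subgroup.normalizer (D.qs : Set H)) :=
    (MonoidHom.id H).codRestrict _ fun h => by rw [hN]; trivial
  have hι : Function.Surjective ι := fun n => ⟨n, Subtype.ext rfl⟩
  set ψ := φ.comp ι
  have hψ : ∀ h, ψ h = 1 ↔ D.act (ι h) = 1 := fun h => by
    rw [← hφ]; exact ⟨fun e => by rw [show φ (ι h) = 1 from e]; rfl, fun e => Subtype.ext e⟩
  have hkerQ : ∀ h, ψ h = 1 ↔ h ∈ D.qs := by
    intro h
    refine ⟨fun e => ?_, fun e => (hψ h).2 (D.act_qs e)⟩
    have h2 : IsPGroup 2 ↥ψ.ker := by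
      rintro ⟨k, hk⟩
      have hk1 := (hψ k).1 hk
      have hkk : k * k ∈ D.zsub := D.centralizer_le fun x hx => by
        rcases D.fix_qs hk1 hx with e1 | e1 <;> change k * x * k⁻¹ = _ at e1
        · have : k * x = x * k := mul_inv_eq_iff_eq_mul.1 e1
          rw [mul_assoc, this, ← mul_assoc, this, mul_assoc]
        · rw [mul_inv_eq_iff_eq_mul] at e1
          calc k * k * x = k * (k * x) := mul_assoc _ _ _
            _ = k * (x * f 2 * k) := by rw [e1]
            _ = k * x * (f 2 * k) := by group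
            _ = x * f 2 * k * (f 2 * k) := by rw [e1]
            _ = x * (f 2 * (k * f 2)) * k := by group
            _ = x * (f 2 * (f 2 * k)) * k := by rw [D.central k]
            _ = x * (k * k) := by rw [← mul_assoc (f 2), D.z_sq]; group
      refine ⟨2, Subtype.ext ?_⟩
      show k ^ (2 ^ 2) = 1
      rw [show k ^ (2 ^ 2) = k * k * (k * k) by simp only [show 2 ^ 2 = 4 from rfl, pow_succ, pow_zero, one_mul, mul_assoc],
        D.sim_sq (D.mem_zsub.1 hkk), mul_one]
    obtain ⟨g, hg⟩ := D.emb.exists_conj_le D.odd h2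
    have hmem := hg (g⁻¹ * h * g) (by
      rw [MonoidHom.mem_ker, map_mul, map_mul, e, mul_one, map_inv, inv_mul_cancel])
    rw [show g * (g⁻¹ * h * g) * g⁻¹ = h by group] at hmem
    obtain ⟨a, ha, rfl⟩ := hmem
    rw [D.mem_qs ha]
    refine D.act_lab_eq_one a ha ?_
    have := (hψ (f a)).1 e
    rwa [show ι (f a) = D.lab a ha from rfl] at this
  refine ⟨ψ, ?_⟩
  exact
    { central := D.central
      zz := D.z_sq
      z1 := D.z_ne
      zQ := (D.mem_qs (by omega)).2 q_mem.2.2.1
      card := D.card_qs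
      center := by
        rintro _ ⟨a, ha, hqa, rfl⟩ h
        have := (D.sim_one ha).2 (q_centre a ha hqa fun i hi =>
          (D.emb.commute_iff ha (pt_facts ⟨i, hi⟩).2.1).1 (h _ (D.point_mem ⟨i, hi⟩)))
        exact this.imp id (fun e => e.trans (one_mul _))
      comm := fun x hx y hy => by
        rcases (D.flat_qs x hx).2 y hy with e | e
        · exact Or.inl (mul_inv_eq_iff_eq_mul.1 e)
        · refine Or.inr ?_
          rw [mul_inv_eq_iff_eq_mul] at e
          rw [e, mul_assoc, ← D.central x, mul_assoc]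
      sq := fun x hx => (D.flat_qs x hx).1.imp id (fun e => e.trans (one_mul _))
      self := fun h hh => D.zsub_le_qs (D.centralizer_le hh)
      surj := hsurj.comp hι
      ker := hkerQ
      uQ := (D.mem_qs (by omega)).2 q_mem.2.1
      uu := (D.emb.sq_one_iff (by omega)).2 u_facts.1
      u1 := fun e => absurd ((D.emb.eq_one_iff (by omega)).1 e) (by omega)
      uz := fun e => absurd (D.emb.inj _ _ (by omega) (by omega) e) (by omega)
      stab := fun h hh => by
        have hfix : D.act (ι h) 4 = 4 := by rw [← hφ]; exact hh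
        have := D.act_spec (ι h) 4
        rwa [hfix, show ((4 : Fin 5) : ℕ) = 4 from rfl, q_mem.2.2.2.2.2.2.1] at this
      outer := ⟨f 26, (D.emb.sq_one_iff (by omega)).2 rep_facts.2.1, fun h => by
        rw [D.mem_qs (by omega), rep_facts.1] at h
        exact Bool.false_ne_true h⟩ }

end Cen

end Cfsg.Agent.J2Type
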