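import Cfsg.Agent.S1658
import Cfsg.Agent.S1665
import Cfsg.Agent.Lib.LargeExtra.Basic
import Cfsg.Agent.Lib.J2Type.Normal

/-!
A simple group with a Sylow 2-subgroup of Hall–Janko type, trivial core in the centraliser of the central involution
and the central involution fused into the second centre is the second or the third Janko group.
-/

set_option autoImplicit false
set_option linter.style.haveILetI false

namespace Cfsg.Agent.J2Type

open scoped commutatorElement

/-- Two commuting involutions of `Q` outside the centre agree modulo the centre. -/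
theorem q_minus : ∀ a < 128, (inQ a && Nat.beq (mulN a a) 0 && !zc a) = true →
    ∀ b < 128, (inQ b && Nat.beq (mulN b b) 0 && !zc b) = true → mulN a b = mulN b a →
      b = a ∨ b = mulN a 2 := by
  have key : ((List.range 128).all fun a => !(inQ a && Nat.beq (mulN a a) 0 && !zc a) ||
      (List.range 128).all fun b => !(inQ b && Nat.beq (mulN b b) 0 && !zc b) ||
        !(Nat.beq (mulN a b) (mulN b a)) || Nat.beq b a || Nat.beq b (mulN a 2)) = true := by
    decide +kernel
  intro a ha hpa b hb hpb hab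
  have h1 := List.all_eq_true.1 key a (List.mem_range.2 ha)
  rw [hpa, Bool.not_true, Bool.false_or] at h1
  have h2 := List.all_eq_true.1 h1 b (List.mem_range.2 hb)
  rw [hpb, hab] at h2
  simpa [Nat.beq_eq] using h2

/-- The two outside representatives are conjugate. -/
theorem outside_flip : ∃ s < 128, cj s 26 = mulN 26 2 := by
  decide +kernel


namespace Cen

variable {H : Type*} [Group H] [Finite H] {f : ℕ → H} (D : Cen f)
include D

theorem isExtraspecial_qs : Cfsg.IsExtraspecial 2 D.qs := by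
  obtain ⟨φ, F⟩ := D.exists_frame
  let z : ↥D.qs := ⟨f 2, F.zQ⟩
  have hz : orderOf z = 2 := by
    haveI : Fact (Nat.Prime 2) := ⟨Nat.prime_two⟩
    exact orderOf_eq_prime (Subtype.ext (by rw [SubmonoidClass.coe_pow, pow_two]; exact F.zz))
      fun h => F.z1 (congrArg Subtype.val h)
  have hmem : ∀ x : ↥D.qs, x ∈ Subgroup.zpowers z ↔ (x : H) = 1 ∨ (x : H) = f 2 := by
    intro x
    constructor
    · rintro ⟨k, rfl⟩
      obtain ⟨j, rfl | rfl⟩ := Int.even_or_odd' k
      · refine Or.inl ?_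
        show ((z ^ (2 * j) : ↥D.qs) : H) = 1
        rw [zpow_mul, zpow_two, show z * z = 1 from Subtype.ext F.zz, one_zpow, OneMemClass.coe_one]
      · refine Or.inr ?_
        show ((z ^ (2 * j + 1) : ↥D.qs) : H) = f 2
        rw [zpow_add_one, zpow_mul, zpow_two, show z * z = 1 from Subtype.ext F.zz, one_zpow, one_mul]
    · rintro (h | h)
      · rw [show x = 1 from Subtype.ext h]; exact one_mem _
      · rw [show x = z from Subtype.ext h]; exact Subgroup.mem_zpowers z
  refine LargeExtra.isExtraspecial_of (IsPGroup.of_card (n := 5) (by rw [D.card_qs]; norm_num)) hz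
    (fun x => ?_) (fun x y => ?_) (fun x => ?_) ?_
  · rw [hmem]
    refine ⟨fun h => F.center x x.2 fun y hy => congrArg Subtype.val (h ⟨y, hy⟩), ?_⟩
    rintro (h | h) y <;> refine Subtype.ext ?_ <;> rw [Subgroup.coe_mul, Subgroup.coe_mul, h]
    · rw [one_mul, mul_one]
    · exact (F.central y).symm
  · rw [hmem]
    simp only [commutatorElement_def, Subgroup.coe_mul, Subgroup.coe_inv]
    rcases F.comm x x.2 y y.2 with e | e
    · exact Or.inl (by rw [e]; group)
    · refine Or.inr ?_
      rw [e]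
      calc (y : H) * x * f 2 * (x : H)⁻¹ * (y : H)⁻¹ = y * x * (f 2 * (x : H)⁻¹) * (y : H)⁻¹ := by group
        _ = y * (f 2 * (y : H)⁻¹) := by rw [← F.central (x : H)⁻¹]; group
        _ = f 2 := by rw [← F.central (y : H)⁻¹]; group
  · rw [hmem, SubmonoidClass.coe_pow, pow_two]
    exact F.sq x x.2
  · by_contra h
    push Not at h
    rcases F.center (f 1) F.uQ fun y hy => congrArg Subtype.val (h ⟨f 1, F.uQ⟩ ⟨y, hy⟩) with e | e
    exacts [F.u1 e, F.uz e]

theorem card_elementary_le (E : Subgroup ↥D.qs) (hE : Cfsg.IsElementaryAbelian 2 E) : Nat.card E ≤ 2 ^ 2 := by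
  obtain ⟨hc, h2⟩ := hE
  have hlab : ∀ x : ↥D.qs, ∃ a, a < 128 ∧ inQ a = true ∧ f a = (x : H) := fun x => by
    obtain ⟨a, ha, e⟩ := D.qs_le x.2
    exact ⟨a, ha, (D.mem_qs ha).1 (e.symm ▸ x.2), e⟩
  have hsq : ∀ x ∈ E, ∀ a, a < 128 → f a = (x : H) → mulN a a = 0 := fun x hx a ha e => by
    refine (D.emb.sq_one_iff ha).1 ?_
    rw [e, ← pow_two]
    simpa using congrArg Subtype.val (h2 x hx)
  by_cases hall : ∀ x ∈ E, ∀ a, a < 128 → f a = (x : H) → zc a = true
  · refine le_trans ?_ (show 2 ≤ 2 ^ 2 by norm_num)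
    have hsub : ((↑) : ↥D.qs → H) '' (E : Set ↥D.qs) ⊆ {1, f 2} := by
      rintro _ ⟨x, hx, rfl⟩
      obtain ⟨a, ha, -, e⟩ := hlab x
      rcases D.emb.zc_cases (hall x hx a ha e) with rfl | rfl
      · exact Or.inl (e ▸ D.emb.one)
      · exact Or.inr e.symm
    have h := Set.ncard_le_ncard hsub
    rw [Set.ncard_image_of_injective _ Subtype.val_injective, ← Nat.card_coe_set_eq] at h
    exact h.trans ((Set.ncard_insert_le _ _).trans (by rw [Set.ncard_singleton]))
  push Not at hall
  obtain ⟨x₀, hx₀, a, ha, ea, hza⟩ := hall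
  have hza' : zc a = false := by simpa using hza
  have hsub : ((↑) : ↥D.qs → H) '' (E : Set ↥D.qs) ⊆ {1, f 2, f a, f (mulN a 2)} := by
    rintro _ ⟨x, hx, rfl⟩
    obtain ⟨b, hb, hqb, e⟩ := hlab x
    rcases hzb : zc b with _ | _
    · have hcomm : mulN a b = mulN b a := by
        refine (D.emb.commute_iff ha hb).1 ?_
        rw [ea, e]
        have := hc.is_comm.comm ⟨x₀, hx₀⟩ ⟨x, hx⟩
        exact congrArg Subtype.val (congrArg Subtype.val this :)
      rcases q_minus a ha (by rw [(D.mem_qs ha).1 (ea.symm ▸ x₀.2), hsq x₀ hx₀ a ha ea, hza']; rfl) b hb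
        (by rw [hqb, hsq x hx b hb e, hzb]; rfl) hcomm with rfl | rfl
      · exact Or.inr (Or.inr (Or.inl e.symm))
      · exact Or.inr (Or.inr (Or.inr e.symm))
    · rcases D.emb.zc_cases hzb with rfl | rfl
      · exact Or.inl (e ▸ D.emb.one)
      · exact Or.inr (Or.inl e.symm)
  have h := Set.ncard_le_ncard hsub
  rw [Set.ncard_image_of_injective _ Subtype.val_injective, ← Nat.card_coe_set_eq] at h
  refine h.trans ?_
  refine (Set.ncard_insert_le _ _).trans (Nat.succ_le_succ ?_)
  refine (Set.ncard_insert_le _ _).trans (Nat.succ_le_succ ?_)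
  exact (Set.ncard_insert_le _ _).trans (by rw [Set.ncard_singleton])

/-- An involution is central or conjugate to a representative. -/
theorem involution_cases {h : H} (h2 : h * h = 1) :
    h = 1 ∨ h = f 2 ∨ ∃ g : H, Sim f (f 1) (g * h * g⁻¹) ∨ Sim f (f 26) (g * h * g⁻¹) := by
  by_cases hne : Sim f 1 h
  · exact hne.imp id fun e => Or.inl (e.trans (one_mul _))
  obtain ⟨g, hg⟩ := D.exists_rep (h := h) (Or.inl h2) hne
  refine Or.inr (Or.inr ⟨g, ?_⟩)
  rcases hg with e | e | e
  · exact Or.inl e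
  · exfalso
    have h1 := D.sim_sq e
    rw [D.pair_facts, show g * h * g⁻¹ * (g * h * g⁻¹) = g * (h * h) * g⁻¹ by group, h2] at h1
    exact D.z_ne (by rw [← h1]; group)
  · exact Or.inr e

end Cen

variable {G : Type*} [Group G] [Finite G] {f : ℕ → G}

/-- The centraliser of the central involution as a `Cen`, when its odd core is trivial. -/
theorem exists_cen_core_bot (E : Emb f) (hodd : ¬ 2 ∣ E.range.index) (h2 : ∀ H : Subgroup G, H.index ≠ 2)
    (hK : Cfsg.oddCore ↥(Subgroup.centralizer ({f 2} : Set G)) = ⊥) :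
    ∃ fK : ℕ → ↥(Subgroup.centralizer ({f 2} : Set G)), Cen fK ∧ ∀ a < 128, (fK a : G) = f a := by
  classical
  set K := Subgroup.centralizer ({f 2} : Set G)
  have hle : E.range ≤ K := by
    rintro _ ⟨a, ha, rfl⟩
    exact Subgroup.mem_centralizer_singleton_iff.2 ((E.commute_iff ha (by omega)).2 (z_check a ha))
  set fK : ℕ → ↥K := fun a => if h : f a ∈ K then ⟨f a, h⟩ else 1
  have hK' : ∀ a, a < 128 → (fK a : G) = f a := fun a ha => by
    show ((if h : f a ∈ K then (⟨f a, h⟩ : ↥K) else 1 : ↥K) : G) = f a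
    rw [dif_pos (hle (E.apply_mem ha))]
  have EK : Emb fK :=
    { hom := fun a b ha hb => Subtype.ext (by
        rw [Subgroup.coe_mul, hK' _ (mulN_lt _ _), hK' a ha, hK' b hb, E.hom a b ha hb])
      inj := fun a b ha hb h => E.inj a b ha hb (by rw [← hK' a ha, ← hK' b hb, h]) }
  have hKr : EK.range = E.range.subgroupOf K := by
    ext ⟨x, hx⟩
    constructor
    · rintro ⟨a, ha, e⟩
      exact ⟨a, ha, by rw [← hK' a ha, e]; rfl⟩
    · rintro ⟨a, ha, e⟩
      exact ⟨a, ha, Subtype.ext (by rw [hK' a ha]; exact e)⟩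
  refine ⟨fK, ⟨EK, ?_, ?_, hK, ?_⟩, hK'⟩
  · intro hd
    refine hodd (hd.trans ?_)
    rw [hKr]
    exact Subgroup.relIndex_dvd_index_of_le hle
  · rintro ⟨x, hx⟩
    refine Subtype.ext ?_
    rw [Subgroup.coe_mul, Subgroup.coe_mul, hK' 2 (by omega)]
    exact Subgroup.mem_centralizer_singleton_iff.1 hx
  · obtain ⟨g, hg, e⟩ := E.exists_fuse hodd h2
    refine ⟨⟨g, Subgroup.mem_centralizer_singleton_iff.2 hg⟩, Subtype.ext ?_⟩
    rw [Subgroup.coe_mul, Subgroup.coe_mul, hK' 5 (by omega), hK' 1 (by omega)]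
    exact e

/-- With trivial odd core and the central involution fused into the second centre every involution is conjugate
to the central one or to the outside one. -/
theorem isConj_cases (E : Emb f) (hodd : ¬ 2 ∣ E.range.index) (h2 : ∀ H : Subgroup G, H.index ≠ 2)
    (hK : Cfsg.oddCore ↥(Subgroup.centralizer ({f 2} : Set G)) = ⊥) (hzu : IsConj (f 2) (f 1))
    (x : G) (hx : orderOf x = 2) : IsConj x (f 2) ∨ IsConj x (f 26) := by
  haveI : Fact (Nat.Prime 2) := ⟨Nat.prime_two⟩
  have hP : IsPGroup 2 (Subgroup.zpowers x) := IsPGroup.of_card (n := 1) (by rw [Nat.card_zpowers, hx, pow_one])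
  obtain ⟨g, hg⟩ := E.exists_conj_le hodd hP
  obtain ⟨a, ha, ea⟩ := hg x (Subgroup.mem_zpowers x)
  have hxa : IsConj x (f a) := isConj_iff.2 ⟨g, ea.symm⟩
  obtain ⟨fK, D, hfK⟩ := exists_cen_core_bot E hodd h2 hK
  have hx2 : x * x = 1 := by rw [← pow_two, ← hx, pow_orderOf_eq_one]
  have h2' : fK a * fK a = 1 := by
    refine Subtype.ext ?_
    rw [Subgroup.coe_mul, hfK a ha, OneMemClass.coe_one, ea,
      show g * x * g⁻¹ * (g * x * g⁻¹) = g * (x * x) * g⁻¹ by group, hx2]
    group
  have h8 : IsConj (f 8) (f 2) := by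
    have e := (u_facts).2.2.2.2.2.1
    refine IsConj.trans (IsConj.symm ?_) hzu.symm
    refine isConj_iff.2 ⟨f 3, ?_⟩
    rw [← E.conj (by omega) (by omega), e]
  have h1 : IsConj (f 1) (f 2) := hzu.symm
  obtain ⟨s, hs, hflip⟩ := outside_flip
  have hflip' : IsConj (f (mulN 26 2)) (f 26) := by
    refine IsConj.symm (isConj_iff.2 ⟨f s, ?_⟩)
    rw [← E.conj hs (by omega), hflip]
  rcases D.involution_cases h2' with e | e | ⟨k, hk⟩
  · exfalso
    have e' : f a = 1 := by rw [← hfK a ha, e]; rfl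
    rw [ea, conj_eq_one_iff] at e'
    rw [e', orderOf_one] at hx
    omega
  · refine Or.inl (hxa.trans ?_)
    rw [← hfK a ha, e, hfK 2 (by omega)]
  · have hk' : IsConj x ((k : G) * f a * (k : G)⁻¹) := hxa.trans (isConj_iff.2 ⟨k, rfl⟩)
    rcases hk with (e | e) | (e | e) <;> have e' := congrArg Subtype.val e <;>
      simp only [Subgroup.coe_mul, Subgroup.coe_inv, hfK a ha, hfK 1 (by omega), hfK 2 (by omega),
        hfK 26 (by omega)] at e' <;> rw [e'] at hk'
    · exact Or.inl (hk'.trans h1)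
    · rw [← E.hom _ _ (by omega) (by omega), (u_facts).2.2.2.1] at hk'
      exact Or.inl (hk'.trans h8)
    · exact Or.inr hk'
    · rw [← E.hom _ _ (by omega) (by omega)] at hk'
      exact Or.inr (hk'.trans hflip')

/-- The recognition once the odd core is trivial. -/
theorem isoJ2_or_isoJ3 {G : Type*} [Group G] [Finite G] [IsSimpleGroup G] {f : ℕ → G} (E : Emb f)
    (hodd : ¬ 2 ∣ E.range.index) (h2 : ∀ H : Subgroup G, H.index ≠ 2)
    (hK : Cfsg.oddCore ↥(Subgroup.centralizer ({f 2} : Set G)) = ⊥) (hzu : IsConj (f 2) (f 1)) :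
    Cfsg.Spor.IsoJ2 G ∨ Cfsg.Spor.IsoJ3 G := by
  haveI : Fact (Nat.Prime 2) := ⟨Nat.prime_two⟩
  obtain ⟨fK, D, hfK⟩ := exists_cen_core_bot E hodd h2 hK
  obtain ⟨φ, F⟩ := D.exists_frame
  haveI : D.qs.Normal := D.qs_normal
  have hker : φ.ker = D.qs := by ext h; exact F.ker h
  let e : ↥(Subgroup.centralizer ({f 2} : Set G)) ⧸ D.qs ≃* alternatingGroup (Fin 5) :=
    (QuotientGroup.quotientMulEquivOfEq hker.symm).trans (QuotientGroup.quotientKerEquivOfSurjective φ F.surj)
  have ht : orderOf (f 2) = 2 :=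
    orderOf_eq_prime (by rw [pow_two]; exact (E.sq_one_iff (by omega)).2 u_facts.2.2.1)
      fun h => absurd ((E.eq_one_iff (by omega)).1 h) (by omega)
  have ho : orderOf (f 26) = 2 :=
    orderOf_eq_prime (by rw [pow_two]; exact (E.sq_one_iff (by omega)).2 Cen.rep_facts.2.1)
      fun h => absurd ((E.eq_one_iff (by omega)).1 h) (by omega)
  have hcases := isConj_cases E hodd h2 hK hzu
  have hcent : Subgroup.centralizer (D.qs : Set ↥(Subgroup.centralizer ({f 2} : Set G))) ≤ D.qs :=
    fun h hh => F.self h fun x hx => (Subgroup.mem_centralizer_iff.1 hh x hx).symm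
  by_cases hzo : IsConj (f 2) (f 26)
  · refine Or.inr (S1658.result (f 2) ht D.qs D.isExtraspecial_qs D.card_qs D.card_elementary_le hcent e ?_)
    intro x y hx hy
    have hall : ∀ w : G, orderOf w = 2 → IsConj w (f 2) := fun w hw =>
      (hcases w hw).elim id fun h => h.trans hzo.symm
    exact (hall x hx).trans (hall y hy).symm
  · exact Or.inl (S1665.result (f 2) ht D.qs D.isExtraspecial_qs D.card_qs D.card_elementary_le hcent e
      ⟨f 2, f 26, ht, ho, hzo, hcases⟩)

end Cfsg.Agent.J2Type
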