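import Cfsg.Agent.Lib.J2.Fusion
import Cfsg.Agent.Lib.J2.Group
import Cfsg.Agent.Lib.J2Type.Embed

/-!
The table is a Sylow 2-subgroup of the Hall–Janko group, with the label `2` a reflection.
-/

set_option autoImplicit false
set_option maxRecDepth 20000
set_option linter.style.haveILetI false

namespace Cfsg.Agent.J2Type

open Cfsg.Agent.PermCert Cfsg.Agent.J2

/-- The code of a label on 100 points. -/
def eC (a : ℕ) : Elt := (get 700 code1 a, get 700 code2 a)

/-- The permutation of a label. -/
def f100 (a : ℕ) : Equiv.Perm (Fin 100) := toPerm 7 100 (eC a)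

theorem code_check : ∀ a < 128, validElt 7 100 (eC a) = true ∧ sift 7 100 sLevels (eC a).1 = true ∧
    (a = 0 ∨ ((List.range 100).any fun i => !Nat.beq (get 7 (eC a).1 i) i) = true) := by decide +kernel

theorem code_mul : ∀ a < 128, ∀ g ∈ genL, eltBeq (eC (mulN a g)) (mul 7 100 (eC a) (eC g)) = true := by
  decide +kernel

theorem code_zero : eltBeq (eC 0) (one 7 100) = true ∧ eltBeq (eC 2) tauE = true := by decide +kernel

theorem rep_f100 {a : ℕ} (ha : a < 128) : Rep 7 (eC a) (f100 a) := rep_toPerm (code_check a ha).1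

theorem f100_zero : f100 0 = 1 :=
  rep_unique (rep_f100 (by omega)) (eltBeq_eq code_zero.1 ▸ rep_one (by norm_num))

theorem f100_gen {a g : ℕ} (ha : a < 128) (hg : g ∈ genL) : f100 (mulN a g) = f100 a * f100 g :=
  rep_unique (rep_f100 (mulN_lt _ _))
    (eltBeq_eq (code_mul a ha g hg) ▸ rep_mul (rep_f100 ha) (rep_f100 (genL_lt g hg)))

theorem f100_mul : ∀ b, b < 128 → ∀ a, a < 128 → f100 (mulN a b) = f100 a * f100 b := by
  intro b
  induction b using Nat.strong_induction_on with
  | _ b ih =>
    intro hb a ha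
    rcases eq_or_ne b 0 with rfl | hb0
    · rw [(group_check a ha).2.2.1, f100_zero, mul_one]
    · obtain ⟨hlt, hg, hpb⟩ := tree_check b hb hb0
      rw [assoc_check a ha b hb hb0, f100_gen (mulN_lt _ _) hg, ih _ hlt (by omega) a ha]
      conv_rhs => rw [← hpb, f100_gen (by omega) hg]
      rw [mul_assoc]

theorem cancel_check : ∀ a < 128, ∀ b < 128, mulN a (mulN (invN a) b) = b := by decide +kernel

theorem emb100 : Emb f100 where
  hom a b ha hb := f100_mul b hb a ha
  inj a b ha hb h := by
    have h0 : f100 (mulN (invN a) b) = 1 := by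
      rw [f100_mul b hb _ (invN_lt a), ← h, ← f100_mul a ha _ (invN_lt a), (group_check a ha).1, f100_zero]
    rcases (code_check _ (mulN_lt (invN a) b)).2.2 with e | e
    · have hc := cancel_check a ha b hb
      rwa [e, (group_check a ha).2.2.1] at hc
    · exfalso
      simp only [List.any_eq_true, List.mem_range, Bool.not_eq_true'] at e
      obtain ⟨i, hi, hne⟩ := e
      have h1 := ((rep_f100 (mulN_lt (invN a) b)) ⟨i, hi⟩).1
      rw [h0] at h1
      simp only [Equiv.Perm.one_apply] at h1
      rw [h1, Nat.beq_refl] at hne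
      exact absurd hne (by simp)

theorem f100_tau : f100 2 = tauP :=
  rep_unique (rep_f100 (by omega)) (eltBeq_eq code_zero.2 ▸ tau_rep)

theorem f100_mem {a : ℕ} (ha : a < 128) : f100 a ∈ S100 :=
  cert_mem s_cert (code_check a ha).1 (code_check a ha).2.1

open Classical in
/-- The label as an element of the Hall–Janko group. -/
noncomputable def fJ (a : ℕ) : Cfsg.Spor.J2 :=
  if h : f100 a ∈ G100 then j2Equiv.symm ⟨f100 a, h⟩ else 1

theorem j2Equiv_fJ {a : ℕ} (ha : a < 128) : ((j2Equiv (fJ a) : G100) : Equiv.Perm (Fin 100)) = f100 a := by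
  rw [fJ, dif_pos (S100_le_P100 (f100_mem ha)), MulEquiv.apply_symm_apply]

theorem embJ : Emb fJ where
  hom a b ha hb := j2Equiv.injective (Subtype.ext (by
    rw [map_mul, Subgroup.coe_mul, j2Equiv_fJ (mulN_lt _ _), j2Equiv_fJ ha, j2Equiv_fJ hb, emb100.hom a b ha hb]))
  inj a b ha hb h := emb100.inj a b ha hb (by rw [← j2Equiv_fJ ha, ← j2Equiv_fJ hb, h])

theorem card_J2 : Nat.card Cfsg.Spor.J2 = 604800 := by
  rw [Nat.card_congr j2Equiv.toEquiv, card_G100]

/-- The image is a Sylow 2-subgroup. -/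
theorem exists_sylow : ∃ Q : Sylow 2 Cfsg.Spor.J2, (Q : Subgroup Cfsg.Spor.J2) = embJ.range := by
  haveI : Finite Cfsg.Spor.J2 := Nat.finite_of_card_ne_zero (by rw [card_J2]; norm_num)
  have hc : Nat.card embJ.range = 2 ^ (Nat.card Cfsg.Spor.J2).factorization 2 := by
    have h7 : (604800 : ℕ).factorization 2 = 7 := by
      rw [show (604800 : ℕ) = 2 ^ 7 * 4725 from rfl, Nat.factorization_mul (by norm_num) (by norm_num),
        Finsupp.add_apply, Nat.Prime.factorization_pow Nat.prime_two, Finsupp.single_eq_same,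
        Nat.factorization_eq_zero_of_not_dvd (by norm_num : ¬ 2 ∣ 4725)]
    rw [embJ.card_range, card_J2, h7]
    norm_num
  exact ⟨Sylow.ofCard embJ.range hc, Sylow.coe_ofCard _ _⟩

end Cfsg.Agent.J2Type
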