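import Cfsg.Agent.Lib.J2Type.FrameDef
import Cfsg.Agent.Lib.J3Uniq.LocalCompl

/-!
The extension `2^{1+4}.A₅` with an outside involution is unique: it is the centraliser model.
-/

set_option autoImplicit false
set_option linter.style.haveILetI false
set_option linter.unusedSectionVars false
set_option synthInstance.maxSize 4000
set_option synthInstance.maxHeartbeats 400000
set_option maxRecDepth 8000

namespace Cfsg.Agent.J2Type

open Cfsg.Agent.HJ
open Cfsg.Agent.HJUniq (s0 p0 r0 x0 q0 prod5 yy pairGen RelH rho)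
open Cfsg.Agent.CosetCert (wprod wprod_cons wprod_nil wprod_append CardLe)
open Cfsg.Agent.J3Uniq (certA5 certA5_check beta_exists stab_three gen_A5 fgen Fix2)

universe w

variable {H : Type w} [Group H] [Finite H] {z u : H} {Q : Subgroup H} {φ : H →* A5}

namespace Frame

variable (F : Frame z u Q φ)
include F

theorem conjQ2 {a x : H} (ha : a ∈ Q) (hx : x ∈ Q) : a * x * a⁻¹ = x ∨ a * x * a⁻¹ = x * z := by
  rcases F.comm a ha x hx with h | h
  · left; rw [h]; group
  · right; rw [h, mul_assoc (x * a), ← F.central a⁻¹]; group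

theorem conj_Q (g : H) {x : H} (hx : x ∈ Q) : g * x * g⁻¹ ∈ Q := by
  rw [← F.ker, map_mul, map_mul, (F.ker x).2 hx, mul_one, map_inv, mul_inv_cancel]

theorem pow_four_one {q : H} (hq : q ∈ Q) : q ^ 4 = 1 := by
  rw [show q ^ 4 = q * q * (q * q) by simp only [pow_succ, pow_zero, one_mul, mul_assoc]]
  rcases F.sq q hq with h | h <;> simp [h, F.zz]

theorem exists_nc {x : H} (hx : x ∈ Q) (h1 : x ≠ 1) (hz : x ≠ z) : ∃ y ∈ Q, x * y ≠ y * x := by
  by_contra h
  push Not at h
  rcases F.center x hx h with h | h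
  exacts [h1 h, hz h]

theorem card_group : Nat.card H = 1920 := by
  have hk : φ.ker = Q := by ext h; exact F.ker h
  have h := φ.ker.card_mul_index
  rw [Subgroup.index_ker, MonoidHom.range_eq_top.2 F.surj, Subgroup.card_top, card_A5, hk, F.card] at h
  exact h.symm

/-- An element of order five fixes only the centre, even modulo the centre. -/
theorem fix_five {c q : H} (hc5 : c ^ 5 = 1) (hc1 : c ≠ 1) (hq : q ∈ Q) (h : Fix2 z c q) : q = 1 ∨ q = z := by
  classical
  haveI : Fact (Nat.Prime 5) := ⟨by norm_num⟩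
  have hcq : c * q = q * c := by
    rcases h with h | h
    · exact conj_eq_iff_comm.1 h
    exfalso
    have step : ∀ n : ℕ, c ^ n * q * (c ^ n)⁻¹ = q * z ^ n := by
      intro n
      induction n with
      | zero => simp
      | succ n ih =>
        rw [pow_succ', show c * c ^ n * q * (c * c ^ n)⁻¹ = c * (c ^ n * q * (c ^ n)⁻¹) * c⁻¹ by group, ih,
          conj_mul', h, conj_eq_iff_comm.2 ((Commute.pow_right (show Commute c z from F.central c) n).eq), mul_assoc,
          ← pow_succ']
    have h5 := step 5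
    rw [hc5, one_mul, inv_one, mul_one, show z ^ 5 = z * (z * z) * (z * z) by
      simp only [pow_succ, pow_zero, one_mul, mul_assoc], F.zz, mul_one, mul_one] at h5
    exact F.z1 (mul_left_cancel (h5.symm.trans (mul_one q).symm))
  have hm := card_fixed_modEq hc5 (Q : Set H) fun w hw => F.conj_Q c hw
  let K := Q ⊓ Subgroup.centralizer ({c} : Set H)
  have e1 : Nat.card {w : H // w ∈ (Q : Set H) ∧ c * w = w * c} = Nat.card K :=
    Nat.card_congr (Equiv.subtypeEquivRight fun w => by simp [K, Subgroup.mem_inf, mem_cent, eq_comm])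
  rw [e1, show Nat.card {w : H // w ∈ (Q : Set H)} = 32 from F.card, Nat.ModEq] at hm
  have hd : Nat.card K ∣ 2 ^ 5 := (F.card ▸ Subgroup.card_dvd_of_le inf_le_left : Nat.card K ∣ 32)
  have hK : Nat.card K = 2 := by
    have hne : Nat.card K ≠ 32 := fun e => by
      have heq := Subgroup.eq_of_le_of_card_ge (inf_le_left : K ≤ Q) (by rw [e, F.card])
      have hcQ : c ∈ Q := F.self c fun w hw => by
        rw [← heq] at hw
        exact (mem_cent.1 hw.2).symm
      have h4 := F.pow_four_one hcQ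
      exact hc1 (by
        calc c = c ^ 5 * (c ^ 4)⁻¹ := by rw [eq_mul_inv_iff_mul_eq, ← pow_succ']
          _ = 1 := by rw [hc5, h4]; simp)
    obtain ⟨m, hm', e⟩ := (Nat.dvd_prime_pow Nat.prime_two).1 hd
    interval_cases m <;> omega
  obtain ⟨w, -, huniq⟩ := (Nat.card_eq_two_iff' (1 : K)).1 hK
  by_cases h1 : q = 1
  · exact Or.inl h1
  · right
    have e1 := huniq ⟨q, hq, mem_cent.2 hcq.symm⟩ fun e => h1 (congrArg Subtype.val e)
    have e2 := huniq ⟨z, F.zQ, mem_cent.2 (F.central c).symm⟩ fun e => F.z1 (congrArg Subtype.val e)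
    exact congrArg Subtype.val (e1.trans e2.symm)

/-- A section of the map onto `A5`. -/
theorem exists_section : ∃ ι : A5 →* H, ∀ τ, φ (ι τ) = τ := by
  classical
  obtain ⟨a, ha, haQ⟩ := F.outer
  have hα : φ a * φ a = 1 := by rw [← map_mul, ha, map_one]
  have hα1 : φ a ≠ 1 := fun e => haQ ((F.ker a).1 e)
  obtain ⟨β, hb3, hb1, hc5, hc1⟩ := beta_exists _ hα hα1
  obtain ⟨d, rfl⟩ := F.surj β
  obtain ⟨b, hb, hbψ⟩ : ∃ b, b ^ 3 = 1 ∧ φ b = φ d := by
    refine ⟨d ^ 16, ?_, ?_⟩
    · have hQ : d ^ 3 ∈ Q := (F.ker _).1 (by rw [map_pow, hb3])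
      rw [← pow_mul, show 16 * 3 = 3 * (4 * 4) from rfl, pow_mul, pow_mul, F.pow_four_one hQ, one_pow]
    · rw [map_pow, show 16 = 3 * 5 + 1 from rfl, pow_succ, pow_mul, hb3, one_pow, one_mul]
  obtain ⟨a', ha', haψ, hc⟩ : ∃ a', a' * a' = 1 ∧ φ a' = φ a ∧ (a' * b) ^ 5 = 1 := by
    have hψ : φ (a * b) = φ a * φ d := by rw [map_mul, hbψ]
    have hq : (a * b) ^ 5 ∈ Q := (F.ker _).1 (by rw [map_pow, hψ, hc5])
    have h5 : ((a * b) ^ 16) ^ 5 = 1 := by
      rw [← pow_mul, show 16 * 5 = 5 * (4 * 4) from rfl, pow_mul, pow_mul, F.pow_four_one hq, one_pow]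
    have hne : (a * b) ^ 16 ≠ 1 := fun e => hc1 (by
      rw [← hψ, ← map_one φ, ← e, map_pow, show 16 = 5 * 3 + 1 from rfl, pow_succ, pow_mul, hψ, hc5, one_pow,
        one_mul])
    rcases F.fix_five h5 hne hq (Or.inl (conj_eq_iff_comm.2 (by rw [← pow_add, ← pow_add, Nat.add_comm]))) with e | e
    · exact ⟨a, ha, rfl, e⟩
    · refine ⟨a * z, ?_, ?_, ?_⟩
      · calc a * z * (a * z) = a * (z * a) * z := by group
          _ = a * a * (z * z) := by rw [← F.central a]; group
          _ = 1 := by rw [ha, F.zz, one_mul]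
      · rw [map_mul, (F.ker z).2 F.zQ, mul_one]
      · rw [show a * z * b = a * b * z by rw [mul_assoc, ← F.central b, mul_assoc],
          (show Commute (a * b) z from F.central _).mul_pow, e,
          show z ^ 5 = z * (z * z) * (z * z) by simp only [pow_succ, pow_zero, one_mul, mul_assoc],
          F.zz, mul_one, mul_one, F.zz]
  set α := φ a with hαdef
  set β := φ d with hβdef
  have htop : Subgroup.closure ({α, β} : Set A5) = ⊤ := gen_A5 hα hα1 hb3 hb1 hc5 hc1
  let f : ℕ → H := fun n => [a', b].getD n 1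
  let gg : ℕ → A5 := fun n => [α, β].getD n 1
  have himg : gg '' {x | x < 2} = ({α, β} : Set A5) := by
    ext τ
    constructor
    · rintro ⟨x, hx, rfl⟩
      rcases (show x = 0 ∨ x = 1 by simp only [Set.mem_setOf_eq] at hx; omega) with rfl | rfl
      exacts [Or.inl rfl, Or.inr rfl]
    · rintro (rfl | rfl)
      exacts [⟨0, by simp, rfl⟩, ⟨1, by simp, rfl⟩]
  set K := Subgroup.closure (pairGen f gg '' {x | x < 2}) with hK
  have mK : ∀ x, x < 2 → pairGen f gg x ∈ K := fun x hx => Subgroup.subset_closure ⟨x, hx, rfl⟩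
  let pa : K := ⟨pairGen f gg 0, mK 0 (by norm_num)⟩
  let pb : K := ⟨pairGen f gg 1, mK 1 (by norm_num)⟩
  have hcK : CardLe K 60 := by
    have hpc : ((pa * pb : K) : H × A5) = (a' * b, α * β) := rfl
    have h5 : (pa * pb) ^ 5 = 1 := Subtype.ext (by
      rw [Subgroup.coe_pow, hpc, Prod.pow_mk, hc, hc5]; rfl)
    have hpa : pa * pa = 1 := Subtype.ext (Prod.ext ha' hα)
    have hpb : pb ^ 3 = 1 := Subtype.ext (by
      rw [Subgroup.coe_pow, show ((pb : K) : H × A5) = (b, β) from rfl, Prod.pow_mk, hb, hb3]; rfl)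
    have hgen : Subgroup.closure {x | x ∈ [pa, pb, pa * pb]} = (⊤ : Subgroup K) := by
      rw [eq_top_iff]
      have h := Subgroup.closure_closure_coe_preimage (k := (pairGen f gg '' {x | x < 2}))
      rw [← h]
      refine (Subgroup.closure_le _).2 ?_
      rintro ⟨p, hp⟩ ⟨x, hx, e⟩
      refine Subgroup.subset_closure ?_
      rcases (show x = 0 ∨ x = 1 by simp only [Set.mem_setOf_eq] at hx; omega) with rfl | rfl
      · simp only [Set.mem_setOf_eq, List.mem_cons]; exact Or.inl (Subtype.ext e.symm)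
      · simp only [Set.mem_setOf_eq, List.mem_cons]; exact Or.inr (Or.inl (Subtype.ext e.symm))
    haveI : Finite (Subgroup.zpowers (pa * pb)) :=
      IsOfFinOrder.finite_zpowers (isOfFinOrder_iff_pow_eq_one.2 ⟨5, by norm_num, h5⟩)
    obtain ⟨hf, hle⟩ := TableCert.card_le [pa, pb, pa * pb] certA5 (Subgroup.zpowers (pa * pb)) hgen
      (by simp [certA5]) (fun r hr => by
        simp only [certA5, List.mem_cons, List.not_mem_nil, or_false] at hr
        rcases hr with rfl | rfl | rfl | rfl <;>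
          simp only [TableCert.wval, TableCert.letter, mul_one] <;> norm_num
        · exact hpa
        · rw [← hpb]; simp only [pow_succ, pow_zero, one_mul, mul_assoc]
        · rw [← h5]; simp only [pow_succ, pow_zero, one_mul, mul_assoc])
      (fun l hl => by
        simp only [certA5, List.mem_singleton] at hl
        subst hl
        simp [TableCert.letter])
      certA5_check
    refine ⟨hf, hle.trans ?_⟩
    rw [Nat.card_zpowers, show certA5.n = 12 from rfl]
    have := Nat.le_of_dvd (by norm_num) (orderOf_dvd_of_pow_eq_one h5)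
    omega
  obtain ⟨χ, hχ⟩ := HJUniq.exists_hom (T := (⊤ : Subgroup A5)) (by rw [himg, htop])
    (by rw [Subgroup.card_top, card_A5]) hcK
  let ι : A5 →* H := χ.comp Subgroup.topEquiv.symm.toMonoidHom
  have hι : ∀ x, x < 2 → ι (gg x) = f x := fun x hx => hχ x hx (Subgroup.mem_top _)
  refine ⟨ι, fun τ => ?_⟩
  have he : φ.comp ι = MonoidHom.id A5 := MonoidHom.eq_of_eqOn_dense htop (by
    rintro x (rfl | rfl)
    · show φ (ι α) = α
      rw [show ι α = a' from hι 0 (by norm_num), haψ]
    · show φ (ι β) = β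
      rw [show ι β = b from hι 1 (by norm_num), hbψ])
  exact congrArg (fun h : A5 →* A5 => h τ) he

end Frame

/-- A complement with a point whose five conjugates multiply to one. -/
structure Lab (z v : H) (Q : Subgroup H) (φ : H →* A5) (ι : A5 →* H) : Prop where
  vQ : v ∈ Q
  vv : v * v = 1
  v1 : v ≠ 1
  vz : v ≠ z
  sec : ∀ τ, φ (ι τ) = τ
  fix : ∀ τ, ap τ 4 = 4 → ι τ * v = v * ι τ
  prod : prod5 ι v = 1

theorem exists_lab (F : Frame z u Q φ) : ∃ v ι, Lab z v Q φ ι := by
  classical
  obtain ⟨ι, hsec⟩ := F.exists_section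
  have fix2 : ∀ τ, ap τ 4 = 4 → Fix2 z (ι τ) u := fun τ hτ => F.stab (ι τ) (by rw [hsec]; exact hτ)
  have h3 : ∀ τ, ap τ 4 = 4 → τ ^ 3 = 1 → ι τ * u = u * ι τ := by
    intro τ hτ h
    rcases fix2 τ hτ with e | e
    · exact conj_eq_iff_comm.1 e
    exfalso
    obtain ⟨x, hx⟩ : ∃ x, x = ι τ := ⟨_, rfl⟩
    rw [← hx] at e
    have hxt : x * z * x⁻¹ = z := conj_eq_iff_comm.2 (F.central x)
    have x3 : x * x * x = 1 := by
      rw [hx, ← map_mul, ← map_mul, ← pow_three' τ, h, map_one]
    have e2 : x * x * u * (x * x)⁻¹ = u := by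
      calc x * x * u * (x * x)⁻¹ = x * (x * u * x⁻¹) * x⁻¹ := by group
        _ = x * (u * z) * x⁻¹ := by rw [e]
        _ = x * u * x⁻¹ * (x * z * x⁻¹) := by group
        _ = u * (z * z) := by rw [e, hxt]; group
        _ = u := by rw [F.zz, mul_one]
    have e3 : u = u * z := by
      calc u = x * x * x * u * (x * x * x)⁻¹ := by rw [x3]; group
        _ = x * (x * x * u * (x * x)⁻¹) * x⁻¹ := by group
        _ = u * z := by rw [e2, e]
    exact F.z1 (mul_left_cancel (e3.symm.trans (mul_one u).symm))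
  have hfix : ∀ τ, ap τ 4 = 4 → ι τ * u = u * ι τ := by
    intro τ hτ
    obtain ⟨b, hb4, hb3, hc3, hc4⟩ := stab_three τ hτ
    rw [← mul_inv_cancel_left b τ, map_mul]
    exact Commute.mul_left (h3 b hb4 hb3) (h3 _ hc4 hc3)
  have hy : ∀ n, yy ι u n ∈ Q := fun n => F.conj_Q _ F.uQ
  have hP : prod5 ι u ∈ Q := Q.mul_mem (Q.mul_mem (Q.mul_mem (hy 0) (hy 1)) (Q.mul_mem (hy 2) (hy 3))) (hy 4)
  have hP' : prod5 ι u = 1 ∨ prod5 ι u = z := by
    have hq5 : q0 ^ 5 = 1 := by decide +kernel
    have hq1 : q0 ≠ 1 := by decide +kernel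
    set c := ι q0 with hc
    have hc5 : c ^ 5 = 1 := by rw [hc, ← map_pow, hq5, map_one]
    refine F.fix_five hc5 (fun e => hq1 (by rw [← hsec q0, ← hc, e, map_one])) hP ?_
    have step : ∀ n, c * yy ι u n * c⁻¹ = yy ι u (n + 1) := by
      intro n
      rw [yy, yy, pow_succ' q0 (n + 1), map_mul, hc]; group
    have h5 : yy ι u 5 = yy ι u 0 := by rw [yy, yy, pow_succ q0 5, hq5, one_mul, pow_one]
    have e : c * prod5 ι u * c⁻¹ = (yy ι u 0)⁻¹ * prod5 ι u * (yy ι u 0)⁻¹⁻¹ := by
      rw [prod5]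
      simp only [conj_mul', step, h5]
      group
    rw [Fix2, e]
    exact F.conjQ2 (Q.inv_mem (hy 0)) hP
  rcases hP' with h | h
  · exact ⟨u, ι, F.uQ, F.uu, F.u1, F.uz, hsec, hfix, h⟩
  refine ⟨u * z, ι, Q.mul_mem F.uQ F.zQ, ?_, ?_, ?_, hsec,
    fun τ hτ => (Commute.mul_right (hfix τ hτ) (F.central (ι τ))).eq, ?_⟩
  · calc u * z * (u * z) = u * (z * u) * z := by group
      _ = u * u * (z * z) := by rw [← F.central u]; group
      _ = 1 := by rw [F.uu, F.zz, one_mul]
  · exact fun e => F.uz ((eq_inv_of_mul_eq_one_left e).trans (inv_of_sq F.zz))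
  · exact fun e => F.u1 (mul_right_cancel (e.trans (one_mul z).symm))
  · have hy' : ∀ n, yy ι (u * z) n = yy ι u n * z := fun n => by
      rw [yy, yy, conj_mul', conj_eq_iff_comm.2 (F.central _)]
    have k : ∀ p q : H, p * z * (q * z) = p * q := fun p q => by
      rw [mul_assoc p, F.central q, ← mul_assoc z z, F.zz, one_mul]
    rw [prod5] at h ⊢
    simp only [hy', k]
    rw [← mul_assoc, h, F.zz]

section Iso

variable {v : H} {ι : A5 →* H} (F : Frame z u Q φ) (L : Lab z v Q φ ι)
include F L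

omit F L in
theorem fgen_word {l : List ℕ} (hl : (l.all fun x => decide (x < 3)) = true) :
    wprod (fgen ι v) l = ι (wprod rho l) := by
  rw [← HJUniq.wprod_map]
  refine HJUniq.wprod_congr' fun y hy => ?_
  have h := of_decide_eq_true (List.all_eq_true.1 hl y hy)
  interval_cases y <;> rfl

theorem relH : RelH (fgen ι v) := by
  refine ⟨fun n => ?_, fun w hw => ?_, fun w hw => ?_⟩
  · have hA : ∀ τ : A5, τ * τ = 1 → ι τ * ι τ = 1 := fun τ h => by rw [← map_mul, h, map_one]
    rcases n with _ | _ | _ | _ | n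
    exacts [hA _ (by decide +kernel), hA _ (by decide +kernel), hA _ (by decide +kernel), L.vv,
      by simp [fgen]]
  · have h : (CosetData.HJA.base.all fun w => (w.all fun x => decide (x < 3)) && decide (wprod rho w = 1)) = true := by
      decide +kernel
    have h' := List.all_eq_true.1 h w hw
    rw [Bool.and_eq_true, decide_eq_true_eq] at h'
    rw [fgen_word h'.1, h'.2, map_one]
  · simp only [CosetData.HJH.base, List.mem_cons, List.not_mem_nil, or_false] at hw
    have hz := fun (l : List ℕ) (h1 : (l.all fun x => decide (x < 3)) = true) (h2 : wprod rho l = 1) =>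
      (fgen_word (ι := ι) (v := v) h1).trans (by rw [h2, map_one] : ι (wprod rho l) = (1 : H))
    rcases hw with rfl | rfl | rfl | rfl | rfl | rfl | rfl
    · exact hz _ (by decide) (by decide +kernel)
    · exact hz _ (by decide) (by decide +kernel)
    · exact hz _ (by decide) (by decide +kernel)
    · exact hz _ (by decide) (by decide +kernel)
    · simp only [wprod_cons, wprod_nil, mul_one]
      show v * (ι s0 * (v * ι s0)) = 1
      have hs : ι s0 * ι s0 = 1 := by rw [← map_mul, show s0 * s0 = 1 by decide +kernel, map_one]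
      calc v * (ι s0 * (v * ι s0)) = v * (ι s0 * v) * ι s0 := by group
        _ = v * v * (ι s0 * ι s0) := by rw [L.fix s0 (by decide +kernel)]; group
        _ = 1 := by rw [L.vv, hs, one_mul]
    · rw [show [3, 1, 2, 0, 1, 3, 1, 0, 2, 1] = [3] ++ ([1, 2, 0, 1] ++ ([3] ++ [1, 0, 2, 1])) from rfl,
        wprod_append, wprod_append, wprod_append, fgen_word (l := [1, 2, 0, 1]) (by decide),
        fgen_word (l := [1, 0, 2, 1]) (by decide),
        show wprod rho [1, 2, 0, 1] = x0 by decide +kernel,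
        show wprod rho [1, 0, 2, 1] = x0⁻¹ by decide +kernel, map_inv, wprod_cons, wprod_nil, mul_one]
      show v * (ι x0 * (v * (ι x0)⁻¹)) = 1
      calc v * (ι x0 * (v * (ι x0)⁻¹)) = v * (ι x0 * v) * (ι x0)⁻¹ := by group
        _ = v * v := by rw [L.fix x0 (by decide +kernel)]; group
        _ = 1 := L.vv
    · have hq : ι p0 * ι r0 = ι q0 := (map_mul ι p0 r0).symm
      have hq' : ι r0 * ι p0 = (ι q0)⁻¹ := by
        rw [← map_mul, ← map_inv]
        exact congrArg ι (by decide +kernel)
      have h4 : yy ι v 4 = v := by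
        rw [yy, show q0 ^ (4 + 1) = 1 by decide +kernel, map_one]; simp
      have key : ι q0 * v * (ι q0 * v) * (ι q0 * v) * (ι q0 * v) *
          ((ι q0)⁻¹ * (ι q0)⁻¹ * (ι q0)⁻¹ * (ι q0)⁻¹) * v = 1 := by
        have h := L.prod
        rw [prod5, h4] at h
        rw [← h, yy, yy, yy, yy]
        simp only [map_pow]
        group
      rw [← key, ← hq', ← hq]
      simp only [wprod_cons, wprod_nil, mul_one]
      simp only [mul_assoc]
      rfl

theorem Q_le {R : Subgroup H} (mι : ∀ τ, ι τ ∈ R) (mv : v ∈ R) : Q ≤ R := by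
  classical
  haveI : Fact (Nat.Prime 5) := ⟨by norm_num⟩
  set K := Q ⊓ R with hKdef
  set c := ι q0 with hcdef
  have hq1 : q0 ≠ 1 := by decide +kernel
  have hc5 : c ^ 5 = 1 := by rw [hcdef, ← map_pow, show q0 ^ 5 = 1 by decide +kernel, map_one]
  have hc1 : c ≠ 1 := fun e => hq1 (by rw [← L.sec q0, ← hcdef, e, map_one])
  have hstab : ∀ w ∈ K, c * w * c⁻¹ ∈ K := fun w hw =>
    ⟨F.conj_Q c hw.1, R.mul_mem (R.mul_mem (mι _) hw.2) (R.inv_mem (mι _))⟩
  have hm := card_fixed_modEq hc5 (K : Set H) hstab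
  have hfix : ∀ w ∈ K, c * w = w * c → w = 1 ∨ w = z := fun w hw e =>
    F.fix_five hc5 hc1 hw.1 (Or.inl (conj_eq_iff_comm.2 e))
  have hz1 : (1 : H) ≠ z := F.z1.symm
  have hvK : v ∈ K := ⟨L.vQ, mv⟩
  have e0 : Nat.card {w : H // w ∈ (K : Set H)} = Nat.card K := rfl
  rw [e0] at hm
  obtain ⟨m, hm5, he⟩ := (Nat.dvd_prime_pow Nat.prime_two).1
    (show Nat.card K ∣ 2 ^ 5 from (F.card ▸ Subgroup.card_dvd_of_le inf_le_left : Nat.card K ∣ 32))
  intro w hw
  suffices hKQ : K = Q from (hKQ ▸ hw : w ∈ K).2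
  refine Subgroup.eq_of_le_of_card_ge inf_le_left ?_
  rw [F.card]
  by_cases hzK : z ∈ K
  · have e2 : Nat.card {w : H // w ∈ (K : Set H) ∧ c * w = w * c} = 2 := by
      rw [Nat.card_congr (Equiv.subtypeEquivRight (q := fun w => w ∈ ({1, z} : Finset H)) fun w => by
        simp only [Finset.mem_insert, Finset.mem_singleton]
        constructor
        · exact fun h => hfix w h.1 h.2
        · rintro (rfl | rfl)
          exacts [⟨K.one_mem, by simp⟩, ⟨hzK, F.central _⟩]), Nat.card_eq_finsetCard, Finset.card_pair hz1]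
    rw [e2, he, Nat.ModEq] at hm
    have h3 : 2 < Nat.card K := by
      have hsub : Nat.card ({1, z, v} : Finset H) ≤ Nat.card K :=
        Nat.card_le_card_of_injective (fun y => ⟨y.1, by
          have := y.2
          simp only [Finset.mem_insert, Finset.mem_singleton] at this
          rcases this with e | e | e <;> rw [e]
          exacts [K.one_mem, hzK, hvK]⟩) fun a b e => Subtype.ext (congrArg Subtype.val e :)
      rw [Nat.card_eq_finsetCard,
        Finset.card_eq_three.2 ⟨1, z, v, hz1, L.v1.symm, L.vz.symm, rfl⟩] at hsub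
      omega
    rw [he] at h3
    interval_cases m <;> simp_all
  · exfalso
    have e1 : Nat.card {w : H // w ∈ (K : Set H) ∧ c * w = w * c} = 1 := by
      rw [Nat.card_congr (Equiv.subtypeEquivRight (q := fun w => w ∈ ({1} : Finset H)) fun w => by
        simp only [Finset.mem_singleton]
        constructor
        · exact fun h => (hfix w h.1 h.2).resolve_right fun e => hzK (e ▸ h.1)
        · rintro rfl
          exact ⟨K.one_mem, by simp⟩), Nat.card_eq_finsetCard, Finset.card_singleton]
    rw [e1, he, Nat.ModEq] at hm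
    have h1 : 1 < Nat.card K := by
      refine lt_of_le_of_ne Nat.card_pos fun e => L.v1 ?_
      exact Subgroup.mem_bot.1 ((Subgroup.card_eq_one.1 e.symm) ▸ hvK)
    have hab : ∀ a ∈ K, ∀ b ∈ K, a * b = b * a := fun a ha b hb =>
      (F.comm a ha.1 b hb.1).resolve_right fun e => hzK (by
        have : (b * a)⁻¹ * (a * b) = z := by rw [e]; group
        exact this ▸ K.mul_mem (K.inv_mem (K.mul_mem hb ha)) (K.mul_mem ha hb))
    obtain ⟨y, hyQ, hyv⟩ := F.exists_nc L.vQ L.v1 L.vz
    let g : K ⊕ K → Q := Sum.elim (fun a => ⟨a.1, a.2.1⟩) fun a => ⟨a.1 * z, Q.mul_mem a.2.1 F.zQ⟩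
    have hg : Function.Injective g := by
      have key : ∀ a b : K, a.1 ≠ b.1 * z := fun a b e => hzK (by
        rw [show z = b.1⁻¹ * a.1 by rw [e]; group]
        exact K.mul_mem (K.inv_mem b.2) a.2)
      rintro (a | a) (b | b) e <;> replace e := congrArg Subtype.val e <;> simp only [g, Sum.elim_inl, Sum.elim_inr] at e
      · exact congrArg Sum.inl (Subtype.ext e)
      · exact absurd e (key a b)
      · exact absurd e.symm (key b a)
      · exact congrArg Sum.inr (Subtype.ext (mul_right_cancel e))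
    have hle := Nat.card_le_card_of_injective g hg
    rw [Nat.card_sum, F.card, he] at hle
    have hm4 : m = 4 := by
      rw [he] at h1
      interval_cases m <;> simp_all
    have hbij := hg.bijective_of_nat_card_le (by rw [Nat.card_sum, F.card, he, hm4]; norm_num)
    obtain ⟨(a | a), e⟩ := hbij.2 ⟨y, hyQ⟩ <;> replace e := congrArg Subtype.val e <;>
      simp only [g, Sum.elim_inl, Sum.elim_inr] at e
    · exact hyv (e ▸ hab v hvK a a.2)
    · refine hyv ?_
      rw [← e]
      calc v * ((a : H) * z) = v * a * z := by group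
        _ = a * (v * z) := by rw [hab v hvK a a.2]; group
        _ = a * z * v := by rw [F.central v]; group

/-- The model maps isomorphically onto the group. -/
theorem equiv_of_lab : Nonempty (HJUniq.MH ≃* H) := by
  classical
  obtain ⟨ψ, hψ⟩ := HJUniq.exists_homH (relH F L)
  have hgen : ∀ x, x < 4 → fgen ι v x ∈ ψ.range := fun x hx =>
    ⟨_, hψ x hx (Subgroup.subset_closure ⟨x, hx, rfl⟩)⟩
  have mι : ∀ τ, ι τ ∈ ψ.range := by
    intro τ
    have htop : Subgroup.closure ({s0, p0, r0} : Set A5) = ⊤ := by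
      rw [eq_top_iff, ← gen_A5 (α := s0) (β := s0 * p0 * r0) (by decide +kernel) (by decide +kernel)
        (by decide +kernel) (by decide +kernel) (by decide +kernel) (by decide +kernel)]
      refine (Subgroup.closure_le _).2 ?_
      rintro x (rfl | rfl)
      · exact Subgroup.subset_closure (Or.inl rfl)
      · exact mul_mem (mul_mem (Subgroup.subset_closure (Or.inl rfl))
          (Subgroup.subset_closure (Or.inr (Or.inl rfl)))) (Subgroup.subset_closure (Or.inr (Or.inr rfl)))
    have : Subgroup.closure ({s0, p0, r0} : Set A5) ≤ ψ.range.comap ι := by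
      refine (Subgroup.closure_le _).2 ?_
      rintro x (rfl | rfl | rfl)
      exacts [hgen 0 (by norm_num), hgen 1 (by norm_num), hgen 2 (by norm_num)]
    rw [htop] at this
    exact this (Subgroup.mem_top τ)
  have hQR := Q_le F L mι (hgen 3 (by norm_num))
  have hsurj : Function.Surjective ψ := fun h => by
    have hq : (ι (φ h))⁻¹ * h ∈ Q := (F.ker _).1 (by rw [map_mul, map_inv, L.sec, inv_mul_cancel])
    have := ψ.range.mul_mem (mι (φ h)) (hQR hq)
    rw [mul_inv_cancel_left] at this
    exact this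
  haveI : Finite HJUniq.MH := Nat.finite_of_card_ne_zero (by rw [HJUniq.card_MH]; norm_num)
  exact ⟨MulEquiv.ofBijective ψ ((Nat.bijective_iff_surjective_and_card ψ).2
    ⟨hsurj, by rw [HJUniq.card_MH, F.card_group]⟩)⟩

end Iso

/-- The group is isomorphic to the model. -/
theorem nonempty_equiv (F : Frame z u Q φ) : Nonempty (HJUniq.MH ≃* H) := by
  obtain ⟨v, ι, L⟩ := exists_lab F
  exact equiv_of_lab F L

end Cfsg.Agent.J2Type
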