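import Cfsg.Agent.Lib.J2.Rank3
import Cfsg.Agent.Lib.J2Type.Model
import Cfsg.Agent.Lib.J2Type.Normal
import Cfsg.Agent.Lib.J2Type.Uniq

/-!
The centraliser of a central involution of a group with a Sylow 2-subgroup of Hall–Janko type and no subgroup of
index two, modulo its odd core, is the centraliser of a central involution in the Hall–Janko group.
-/

set_option autoImplicit false
set_option linter.style.haveILetI false

namespace Cfsg.Agent.J2Type

open Cfsg.Agent.J2

/-- The centraliser modulo its odd core is the model. -/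
theorem nonempty_model {G : Type*} [Group G] [Finite G] {f : ℕ → G} (E : Emb f) (hodd : ¬ 2 ∣ E.range.index)
    (h2 : ∀ H : Subgroup G, H.index ≠ 2) :
    Nonempty (HJUniq.MH ≃* ↥(Subgroup.centralizer ({f 2} : Set G)) ⧸
      Cfsg.oddCore ↥(Subgroup.centralizer ({f 2} : Set G))) := by
  obtain ⟨fH, D⟩ := exists_cen E hodd h2
  obtain ⟨φ, F⟩ := D.exists_frame
  exact nonempty_equiv F

theorem index_ne_two_J2 (H : Subgroup Cfsg.Spor.J2) : H.index ≠ 2 := by
  intro h
  haveI : IsSimpleGroup Cfsg.Spor.J2 := by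
    haveI : IsSimpleGroup G100 := isSimple_P100
    exact j2Equiv.isSimpleGroup
  haveI := Subgroup.normal_of_index_eq_two h
  rcases IsSimpleGroup.eq_bot_or_eq_top_of_normal H inferInstance with rfl | rfl
  · rw [Subgroup.index_bot, card_J2] at h
    omega
  · rw [Subgroup.index_top] at h
    omega

theorem odd_index_J2 : ¬ 2 ∣ embJ.range.index := by
  haveI : Finite Cfsg.Spor.J2 := Nat.finite_of_card_ne_zero (by rw [card_J2]; norm_num)
  have h := embJ.range.card_mul_index
  rw [embJ.card_range, card_J2] at h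
  omega

/-- In the Hall–Janko group the centraliser itself is the model. -/
theorem nonempty_model_J2 :
    Nonempty (HJUniq.MH ≃* ↥(Subgroup.centralizer ({fJ 2} : Set Cfsg.Spor.J2))) := by
  haveI : Finite Cfsg.Spor.J2 := Nat.finite_of_card_ne_zero (by rw [card_J2]; norm_num)
  obtain ⟨e⟩ := nonempty_model embJ odd_index_J2 index_ne_two_J2
  set C := Subgroup.centralizer ({fJ 2} : Set Cfsg.Spor.J2)
  have hle : Nat.card C ≤ 1920 := by
    rw [← card_C100]
    refine Nat.card_le_card_of_injective (fun x : C => (⟨((j2Equiv x.1 : G100) : Equiv.Perm (Fin 100)),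
      centralizer_eq _ (j2Equiv x.1).2 ?_⟩ : C100)) fun x y h => ?_
    · have h2 := congrArg (fun g => ((j2Equiv g : G100) : Equiv.Perm (Fin 100)))
        (Subgroup.mem_centralizer_singleton_iff.1 x.2)
      simp only [map_mul, Subgroup.coe_mul, j2Equiv_fJ (show (2 : ℕ) < 128 by omega), f100_tau] at h2
      exact h2
    · exact Subtype.ext (j2Equiv.injective (Subtype.ext (congrArg Subtype.val h :)))
  have h := (Cfsg.oddCore ↥C).card_mul_index
  rw [show (Cfsg.oddCore ↥C).index = 1920 from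
    (Nat.card_congr e.toEquiv).symm.trans HJUniq.card_MH] at h
  have h1 : Cfsg.oddCore ↥C = ⊥ := by
    refine Subgroup.card_eq_one.1 ?_
    have hp : 0 < Nat.card (Cfsg.oddCore ↥C) := Nat.card_pos
    omega
  exact ⟨e.trans ((QuotientGroup.quotientMulEquivOfEq h1).trans QuotientGroup.quotientBot)⟩

/-- A group with a Sylow 2-subgroup of Hall–Janko type contains the table. -/
theorem exists_emb {G : Type*} [Group G] [Finite G] (S : Sylow 2 G) (P : Sylow 2 Cfsg.Spor.J2)
    (hS : Nonempty (↥(S : Subgroup G) ≃* ↥(P : Subgroup Cfsg.Spor.J2))) :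
    ∃ f : ℕ → G, ∃ E : Emb f, E.range = (S : Subgroup G) := by
  classical
  haveI : Fact (Nat.Prime 2) := ⟨Nat.prime_two⟩
  haveI : Finite Cfsg.Spor.J2 := Nat.finite_of_card_ne_zero (by rw [card_J2]; norm_num)
  obtain ⟨Q, hQ⟩ := exists_sylow
  let e : ↥(S : Subgroup G) ≃* ↥embJ.range :=
    (hS.some.trans (Sylow.equiv P Q)).trans (MulEquiv.subgroupCongr hQ)
  let f : ℕ → G := fun a => if h : a < 128 then (e.symm ⟨fJ a, embJ.apply_mem h⟩ : G) else 1
  have hf : ∀ a (h : a < 128), f a = (e.symm ⟨fJ a, embJ.apply_mem h⟩ : G) := fun a h => dif_pos h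
  have E : Emb f :=
    { hom := fun a b ha hb => by
        rw [hf _ (mulN_lt _ _), hf a ha, hf b hb, ← Subgroup.coe_mul, ← map_mul]
        exact congrArg (fun x => (e.symm x : G)) (Subtype.ext (embJ.hom a b ha hb))
      inj := fun a b ha hb h => by
        rw [hf a ha, hf b hb] at h
        exact embJ.inj a b ha hb (congrArg Subtype.val (e.symm.injective (Subtype.ext h))) }
  refine ⟨f, E, Subgroup.eq_of_le_of_card_ge ?_ ?_⟩
  · rintro _ ⟨a, ha, rfl⟩
    rw [hf a ha]
    exact (e.symm _).2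
  · rw [E.card_range, Nat.card_congr e.toEquiv, embJ.card_range]

/-- The conclusion for the central involution. -/
theorem centralizer_iso {G : Type*} [Group G] [Finite G] (S : Sylow 2 G) (P : Sylow 2 Cfsg.Spor.J2)
    (hS : Nonempty (↥(S : Subgroup G) ≃* ↥(P : Subgroup Cfsg.Spor.J2))) (h2 : ∀ H : Subgroup G, H.index ≠ 2)
    (z : G) (hz : orderOf z = 2) (hzS : z ∈ (S : Subgroup G)) (hzc : ∀ s ∈ (S : Subgroup G), s * z = z * s) :
    ∃ (z' : Cfsg.Spor.J2) (Q : Sylow 2 Cfsg.Spor.J2), orderOf z' = 2 ∧ z' ∈ (Q : Subgroup Cfsg.Spor.J2) ∧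
      (∀ s ∈ (Q : Subgroup Cfsg.Spor.J2), s * z' = z' * s) ∧
      Nonempty ((↥(Subgroup.centralizer ({z} : Set G)) ⧸ Cfsg.oddCore ↥(Subgroup.centralizer ({z} : Set G))) ≃*
        ↥(Subgroup.centralizer ({z'} : Set Cfsg.Spor.J2))) := by
  haveI : Fact (Nat.Prime 2) := ⟨Nat.prime_two⟩
  obtain ⟨f, E, hE⟩ := exists_emb S P hS
  rw [← hE] at hzS hzc
  obtain ⟨a, ha, rfl⟩ := hzS
  have ha2 : a = 2 := by
    rcases E.zc_cases (centre_check a ha fun g hg =>
      (E.commute_iff ha (genL_lt g hg)).1 (hzc _ (E.apply_mem (genL_lt g hg))).symm) with e | e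
    · rw [e, E.one, orderOf_one] at hz; omega
    · exact e
  subst ha2
  have hodd : ¬ 2 ∣ E.range.index := hE ▸ S.not_dvd_index
  obtain ⟨e⟩ := nonempty_model E hodd h2
  obtain ⟨e'⟩ := nonempty_model_J2
  obtain ⟨Q, hQ⟩ := exists_sylow
  refine ⟨fJ 2, Q, ?_, hQ ▸ embJ.apply_mem (by omega), ?_, ⟨e.symm.trans e'⟩⟩
  · exact orderOf_eq_prime (by rw [pow_two]; exact (embJ.sq_one_iff (by omega)).2 u_facts.2.2.1)
      fun h => absurd ((embJ.eq_one_iff (by omega)).1 h) (by omega)
  · rw [hQ]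
    rintro _ ⟨b, hb, rfl⟩
    exact (embJ.commute_iff hb (by omega)).2 (z_check b hb)

end Cfsg.Agent.J2Type
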