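import Cfsg.Agent.Lib.J2Type.Finish
import Cfsg.Agent.Lib.SEMain.Bender
import Cfsg.Agent.Lib.SEMain.Proof
import Cfsg.Agent.Lib.Involutions.StronglyEmbedded
import Cfsg.Agent.Lib.Involutions.Basic

/-!
The end lemma for simple groups with a Sylow 2-subgroup of Hall–Janko type: no proper subgroup contains the
centralisers of the central and of the outside involution and fuses the central involution into the second centre.
-/

set_option autoImplicit false
set_option linter.style.haveILetI false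

namespace Cfsg.Agent.J2Type

open Subgroup

variable {G : Type*} [Group G] [Finite G] {f : ℕ → G}

/-- The centraliser modulo its odd core, with the labelling kept. -/
theorem exists_cen_spec (E : Emb f) (hodd : ¬ 2 ∣ E.range.index) (h2 : ∀ H : Subgroup G, H.index ≠ 2) :
    ∃ fK : ℕ → ↥(centralizer ({f 2} : Set G)), (∀ a < 128, (fK a : G) = f a) ∧
      Cen fun a => QuotientGroup.mk' (Cfsg.oddCore ↥(centralizer ({f 2} : Set G))) (fK a) := by
  classical
  haveI : Fact (Nat.Prime 2) := ⟨Nat.prime_two⟩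
  set K := centralizer ({f 2} : Set G)
  set O := Cfsg.oddCore ↥K
  have hle : E.range ≤ K := by
    rintro _ ⟨a, ha, rfl⟩
    exact mem_centralizer_singleton_iff.2 ((E.commute_iff ha (by omega)).2 (z_check a ha))
  set fK : ℕ → ↥K := fun a => if h : f a ∈ K then ⟨f a, h⟩ else 1
  have hK : ∀ a, a < 128 → (fK a : G) = f a := fun a ha => by
    show ((if h : f a ∈ K then (⟨f a, h⟩ : ↥K) else 1 : ↥K) : G) = f a
    rw [dif_pos (hle (E.apply_mem ha))]
  have EK : Emb fK :=
    { hom := fun a b ha hb => Subtype.ext (by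
        rw [Subgroup.coe_mul, hK _ (mulN_lt _ _), hK a ha, hK b hb, E.hom a b ha hb])
      inj := fun a b ha hb h => E.inj a b ha hb (by rw [← hK a ha, ← hK b hb, h]) }
  have hKr : EK.range = E.range.subgroupOf K := by
    ext ⟨x, hx⟩
    constructor
    · rintro ⟨a, ha, e⟩
      exact ⟨a, ha, by rw [← hK a ha, e]; rfl⟩
    · rintro ⟨a, ha, e⟩
      exact ⟨a, ha, Subtype.ext (by rw [hK a ha]; exact e)⟩
  set π := QuotientGroup.mk' O
  have hker : ∀ a, a < 128 → π (fK a) = 1 → fK a = 1 := by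
    intro a ha h
    rw [QuotientGroup.mk'_apply, QuotientGroup.eq_one_iff] at h
    have h1 : orderOf (fK a) ∣ Nat.card ↥O := Subgroup.orderOf_dvd_natCard O h
    obtain ⟨k, hk⟩ := EK.isPGroup_range ⟨fK a, EK.apply_mem ha⟩
    have h2' : orderOf (fK a) ∣ 2 ^ k := orderOf_dvd_of_pow_eq_one (congrArg Subtype.val hk)
    exact orderOf_eq_one_iff.1 (Nat.eq_one_of_dvd_coprimes
      (Nat.Coprime.pow_left k (PBasic.pPrimeCore_coprime 2 ↥K).symm) h2' h1)
  have EH := EK.map π hker
  refine ⟨fK, hK, EH, ?_, ?_, ?_, ?_⟩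
  · intro hd
    refine hodd (hd.trans ?_)
    have hr : EH.range = EK.range.map π := by
      ext x
      constructor
      · rintro ⟨a, ha, rfl⟩; exact ⟨fK a, EK.apply_mem ha, rfl⟩
      · rintro ⟨_, ⟨a, ha, rfl⟩, rfl⟩; exact ⟨a, ha, rfl⟩
    rw [hr]
    refine (Subgroup.index_map_dvd EK.range (QuotientGroup.mk'_surjective O)).trans ?_
    rw [hKr]
    exact Subgroup.relIndex_dvd_index_of_le hle
  · rintro ⟨⟨x, hx⟩⟩
    show π ⟨x, hx⟩ * π (fK 2) = π (fK 2) * π ⟨x, hx⟩
    rw [← map_mul, ← map_mul]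
    refine congrArg π (Subtype.ext ?_)
    rw [Subgroup.coe_mul, Subgroup.coe_mul, hK 2 (by omega)]
    exact mem_centralizer_singleton_iff.1 hx
  · exact PBasic.pPrimeCore_quotient_pPrimeCore 2 ↥K
  · obtain ⟨g, hg, e⟩ := E.exists_fuse hodd h2
    refine ⟨π ⟨g, mem_centralizer_singleton_iff.2 hg⟩, ?_⟩
    show π _ * π (fK 5) * (π _)⁻¹ = π (fK 1)
    rw [← map_inv, ← map_mul, ← map_mul]
    refine congrArg π (Subtype.ext ?_)
    rw [Subgroup.coe_mul, Subgroup.coe_mul, hK 5 (by omega), hK 1 (by omega)]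
    exact e

/-- An involution of the centraliser of the central one is conjugate inside it to one of four. -/
theorem invol_cases_cen (E : Emb f) (hodd : ¬ 2 ∣ E.range.index) (h2 : ∀ H : Subgroup G, H.index ≠ 2)
    {x : G} (hx : orderOf x = 2) (hc : x * f 2 = f 2 * x) :
    ∃ g : G, g * f 2 = f 2 * g ∧
      (g * x * g⁻¹ = f 2 ∨ g * x * g⁻¹ = f 1 ∨ g * x * g⁻¹ = f 8 ∨ g * x * g⁻¹ = f 26) := by
  haveI : Fact (Nat.Prime 2) := ⟨Nat.prime_two⟩
  set K := centralizer ({f 2} : Set G)
  set O := Cfsg.oddCore ↥K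
  set π := QuotientGroup.mk' O
  obtain ⟨fK, hfK, D⟩ := exists_cen_spec E hodd h2
  have hO : (Nat.card O).Coprime 2 := PBasic.pPrimeCore_coprime 2 ↥K
  -- equal images give conjugacy
  have lift : ∀ (y : ↥K) (b : ℕ), b < 128 → mulN b b = 0 → b ≠ 0 → orderOf (y : G) = 2 → π y = π (fK b) →
      ∃ d : ↥K, (d : G) * y * (d : G)⁻¹ = f b := by
    intro y b hb hbb hb0 hy e
    have ho : orderOf (fK b) = 2 := by
      rw [← Subgroup.orderOf_coe, hfK b hb]
      exact orderOf_eq_prime (by rw [pow_two]; exact (E.sq_one_iff hb).2 hbb)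
        fun h => hb0 ((E.eq_one_iff hb).1 h)
    have hy' : orderOf y = 2 := by rw [← Subgroup.orderOf_coe]; exact hy
    have hmem : y * fK b ∈ O := by
      rw [← QuotientGroup.eq_one_iff]
      show π (y * fK b) = 1
      rw [map_mul, e, ← map_mul, show fK b * fK b = 1 by have := pow_orderOf_eq_one (fK b); rwa [ho, pow_two] at this, map_one]
    have hoddm : Odd (orderOf (y * fK b)) :=
      (Nat.coprime_two_right.1 hO).of_dvd_nat (Subgroup.orderOf_dvd_natCard O hmem)
    obtain ⟨d, -, hd⟩ := Invol.conj_of_odd hy' ho hoddm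
    refine ⟨d, ?_⟩
    have := congrArg Subtype.val hd
    rw [Subgroup.coe_mul, Subgroup.coe_mul, Subgroup.coe_inv, hfK b hb] at this
    exact this
  set X : ↥K := ⟨x, mem_centralizer_singleton_iff.2 hc⟩
  have hX : π X * π X = 1 := by
    rw [← map_mul, show X * X = 1 from Subtype.ext (by
      show x * x = 1
      rw [← pow_two, ← hx, pow_orderOf_eq_one]), map_one]
  obtain ⟨s, hs, hflip⟩ := outside_flip
  rcases D.involution_cases hX with e | e | ⟨g, hg⟩
  · exfalso
    rw [QuotientGroup.mk'_apply, QuotientGroup.eq_one_iff] at e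
    have h1 : orderOf X ∣ Nat.card O := Subgroup.orderOf_dvd_natCard O e
    rw [← Subgroup.orderOf_coe, show ((X : ↥K) : G) = x from rfl, hx] at h1
    exact absurd (Nat.eq_one_of_dvd_coprimes hO h1 dvd_rfl) (by omega)
  · obtain ⟨d, hd⟩ := lift X 2 (by omega) u_facts.2.2.1 (by omega) hx e
    exact ⟨d, mem_centralizer_singleton_iff.1 d.2, Or.inl hd⟩
  · obtain ⟨k, rfl⟩ := QuotientGroup.mk'_surjective O g
    have hy : orderOf ((k * X * k⁻¹ : ↥K) : G) = 2 := by
      rw [Subgroup.coe_mul, Subgroup.coe_mul, Subgroup.coe_inv, Invol.order_conj]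
      exact hx
    have done : ∀ b, b < 128 → mulN b b = 0 → b ≠ 0 → π (k * X * k⁻¹) = π (fK b) →
        ∃ g' : G, g' * f 2 = f 2 * g' ∧ g' * x * g'⁻¹ = f b := by
      intro b hb hbb hb0 e
      obtain ⟨d, hd⟩ := lift _ b hb hbb hb0 hy e
      refine ⟨(d : G) * k, mem_centralizer_singleton_iff.1 (mul_mem d.2 k.2), ?_⟩
      rw [Subgroup.coe_mul, Subgroup.coe_mul, Subgroup.coe_inv] at hd
      rw [← hd, show ((X : ↥K) : G) = x from rfl]
      group
    have EQ := D.emb
    have h26 : mulN (mulN 26 2) (mulN 26 2) = 0 ∧ mulN 26 2 ≠ 0 ∧ mulN 1 2 = 8 := by decide +kernel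
    rcases hg with (e | e) | (e | e)
    · obtain ⟨g', h1, h2'⟩ := done 1 (by omega) u_facts.1 (by omega)
        (by rw [map_mul, map_mul, map_inv]; exact e)
      exact ⟨g', h1, Or.inr (Or.inl h2')⟩
    · obtain ⟨g', h1, h2'⟩ := done 8 (by omega) u_facts.2.1 (by omega)
        (by
          rw [map_mul, map_mul, map_inv, e, ← h26.2.2]
          exact (EQ.hom 1 2 (by omega) (by omega)).symm)
      exact ⟨g', h1, Or.inr (Or.inr (Or.inl h2'))⟩
    · obtain ⟨g', h1, h2'⟩ := done 26 (by omega) Cen.rep_facts.2.1 (by omega)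
        (by rw [map_mul, map_mul, map_inv]; exact e)
      exact ⟨g', h1, Or.inr (Or.inr (Or.inr h2'))⟩
    · obtain ⟨g', h1, h2'⟩ := done (mulN 26 2) (mulN_lt _ _) h26.1 h26.2.1
        (by rw [map_mul, map_mul, map_inv, e]; exact (EQ.hom 26 2 (by omega) (by omega)).symm)
      refine ⟨(f s)⁻¹ * g', ?_, Or.inr (Or.inr (Or.inr ?_))⟩
      · have hsz : (f s)⁻¹ * f 2 = f 2 * (f s)⁻¹ :=
          (show Commute (f s) (f 2) from (E.commute_iff hs (by omega)).2 (z_check s hs)).inv_left
        calc (f s)⁻¹ * g' * f 2 = (f s)⁻¹ * f 2 * g' := by rw [mul_assoc, h1, mul_assoc]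
          _ = f 2 * ((f s)⁻¹ * g') := by rw [hsz, mul_assoc]
      · rw [show (f s)⁻¹ * g' * x * ((f s)⁻¹ * g')⁻¹ = (f s)⁻¹ * (g' * x * g'⁻¹) * f s by group, h2',
          ← hflip, E.conj hs (by omega)]
        group

/-- The end lemma. -/
theorem false_of_centralizers_le [IsSimpleGroup G] (E : Emb f) (hodd : ¬ 2 ∣ E.range.index)
    (h2 : ∀ H : Subgroup G, H.index ≠ 2) {M : Subgroup G} (hM : M ≠ ⊤)
    (hz : centralizer ({f 2} : Set G) ≤ M) (ho : centralizer ({f 26} : Set G) ≤ M)
    (hfu : ∃ n ∈ M, n * f 2 * n⁻¹ = f 1) : False := by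
  haveI : Fact (Nat.Prime 2) := ⟨Nat.prime_two⟩
  obtain ⟨n, hnM, hn⟩ := hfu
  have hCmem : ∀ g : G, g * f 2 = f 2 * g → g ∈ M := fun g hg => hz (mem_centralizer_singleton_iff.2 hg)
  have hRM : E.range ≤ M := by
    rintro _ ⟨a, ha, rfl⟩
    exact hCmem _ ((E.commute_iff ha (by omega)).2 (z_check a ha))
  have hconjC : ∀ {m t : G}, m ∈ M → centralizer ({t} : Set G) ≤ M →
      centralizer ({m * t * m⁻¹} : Set G) ≤ M := by
    intro m t hm ht g hg
    have h1 : m⁻¹ * g * m ∈ M := ht (mem_centralizer_singleton_iff.2 (by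
      have := mem_centralizer_singleton_iff.1 hg
      calc m⁻¹ * g * m * t = m⁻¹ * (g * (m * t * m⁻¹)) * m := by group
        _ = m⁻¹ * (m * t * m⁻¹ * g) * m := by rw [this]
        _ = t * (m⁻¹ * g * m) := by group))
    have := mul_mem (mul_mem hm h1) (inv_mem hm)
    rwa [show m * (m⁻¹ * g * m) * m⁻¹ = g by group] at this
  have h1 : centralizer ({f 1} : Set G) ≤ M := hn ▸ hconjC hnM hz
  have h8 : centralizer ({f 8} : Set G) ≤ M := by
    have e : f 3 * f 1 * (f 3)⁻¹ = f 8 := by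
      rw [← E.conj (by omega) (by omega), u_facts.2.2.2.2.2.1]
    exact e ▸ hconjC (hRM (E.apply_mem (by omega))) h1
  let T : Sylow 2 ↥M := (IsPGroup.of_card (n := 7) (by
      rw [Nat.card_congr (subgroupOfEquivOfLe hRM).toEquiv, E.card_range]; norm_num) :
    IsPGroup 2 (E.range.subgroupOf M)).toSylow fun hd => hodd (hd.trans (relIndex_dvd_index_of_le hRM))
  have hT : (T : Subgroup ↥M).map M.subtype = E.range := by
    show (E.range.subgroupOf M).map M.subtype = E.range
    rw [subgroupOf_map_subtype]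
    exact inf_eq_left.2 hRM
  have hev : Even (Nat.card M) := by
    rw [even_iff_two_dvd]
    refine dvd_trans ?_ (card_dvd_of_le hRM)
    rw [E.card_range]; norm_num
  have hSE : Cfsg.IsStronglyEmbedded M := by
    refine Invol.se_of_centralizers hM T hev ?_ fun t htM ht => ?_
    · rw [hT]
      intro g hg
      refine hCmem g ?_
      obtain ⟨a, ha, ea⟩ := (mem_normalizer_iff.1 hg (f 2)).1 (E.apply_mem (by omega))
      have hz' : zc a = true := centre_check a ha fun b hb => by
        refine (E.commute_iff ha (genL_lt b hb)).1 ?_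
        obtain ⟨c, hc, ec⟩ := (mem_normalizer_iff.1 (inv_mem hg) (f b)).1 (E.apply_mem (genL_lt b hb))
        have hcz : f c * f 2 = f 2 * f c := (E.commute_iff hc (by omega)).2 (z_check c hc)
        rw [ec, inv_inv] at hcz
        rw [ea]
        calc g * f 2 * g⁻¹ * f b = g * (f 2 * (g⁻¹ * f b * g)) * g⁻¹ := by group
          _ = g * (g⁻¹ * f b * g * f 2) * g⁻¹ := by rw [hcz]
          _ = f b * (g * f 2 * g⁻¹) := by group
      rcases E.zc_cases hz' with e | e
      · rw [e, E.one] at ea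
        exact absurd ((E.eq_one_iff (by omega)).1 (conj_eq_one_iff.1 ea.symm)) (by omega)
      · rw [e] at ea
        exact mul_inv_eq_iff_eq_mul.1 ea.symm
    · obtain ⟨m, hm, hmS⟩ : ∃ m ∈ M, m * t * m⁻¹ ∈ E.range := by
        have hP : IsPGroup 2 (zpowers (⟨t, htM⟩ : ↥M)) :=
          IsPGroup.of_card (n := 1) (by rw [Nat.card_zpowers, Subgroup.orderOf_mk, ht, pow_one])
        obtain ⟨P, hP'⟩ := hP.exists_le_sylow
        obtain ⟨m, hm⟩ := MulAction.exists_smul_eq (↥M) P T
        refine ⟨m, m.2, ?_⟩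
        rw [← hT]
        refine ⟨m * ⟨t, htM⟩ * m⁻¹, ?_, by simp⟩
        rw [← hm]
        exact smul_mem_pointwise_smul _ (MulAut.conj m) _ (hP' (mem_zpowers _))
      have ht' : orderOf (m * t * m⁻¹) = 2 := by rw [Invol.order_conj, ht]
      obtain ⟨a, ha, ea⟩ := hmS
      obtain ⟨g, hg, hcases⟩ := invol_cases_cen E hodd h2 ht'
        (by rw [← ea]; exact (E.commute_iff ha (by omega)).2 (z_check a ha))
      have hgm : g * m ∈ M := mul_mem (hCmem g hg) hm
      have key : ∀ y : G, g * (m * t * m⁻¹) * g⁻¹ = y → centralizer ({y} : Set G) ≤ M →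
          centralizer ({t} : Set G) ≤ M := by
        intro y hy hyM
        have := hconjC (inv_mem hgm) hyM
        rwa [show (g * m)⁻¹ * y * (g * m)⁻¹⁻¹ = t by rw [← hy]; group] at this
      rcases hcases with e | e | e | e
      exacts [key _ e hz, key _ e h1, key _ e h8, key _ e ho]
  have ho2 : ∀ b, b < 128 → b ≠ 0 → mulN b b = 0 → orderOf (f b) = 2 := fun b hb h0 hbb =>
    orderOf_eq_prime (by rw [pow_two]; exact (E.sq_one_iff hb).2 hbb) fun h => h0 ((E.eq_one_iff hb).1 h)
  have hp : SEMain.HasPair M :=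
    ⟨f 1, f 2, hRM (E.apply_mem (by omega)), hRM (E.apply_mem (by omega)), ho2 1 (by omega) (by omega) u_facts.1,
      ho2 2 (by omega) (by omega) u_facts.2.2.1,
      fun e => absurd (E.inj _ _ (by omega) (by omega) e) (by omega),
      (E.commute_iff (by omega) (by omega)).2 (z_check 1 (by omega))⟩
  obtain ⟨hcomm, -⟩ := SEMain.stmt G M hSE (SEMain.core_eq_bot_of_simple hM) hp.exists_four
  have hc := hcomm (f 5) (f 1) (hRM (E.apply_mem (by omega))) (hRM (E.apply_mem (by omega)))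
    (ho2 5 (by omega) (by omega) u_facts.2.2.2.2.2.2.2.1) (ho2 1 (by omega) (by omega) u_facts.1)
  exact u_facts.2.2.2.2.2.2.2.2.1 ((E.commute_iff (by omega) (by omega)).1 hc)

end Cfsg.Agent.J2Type
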