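import Cfsg.Agent.Lib.J2Type.Quot
import Mathlib.GroupTheory.Sylow

/-!
Working modulo the central involution: the extraspecial subgroup is weakly closed, and its normaliser fuses the
outside involution into the second centre.
-/

set_option autoImplicit false
set_option linter.style.haveILetI false

namespace Cfsg.Agent.J2Type

variable {H : Type*} [Group H] {f : ℕ → H}

/-- Equality up to the central involution. -/
def Sim (f : ℕ → H) (x y : H) : Prop := y = x ∨ y = x * f 2

/-- Squares and commutators in the centre. -/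
def Flat (f : ℕ → H) (A : Subgroup H) : Prop :=
  ∀ a ∈ A, Sim f 1 (a * a) ∧ ∀ b ∈ A, Sim f b (a * b * a⁻¹)

namespace Cen

variable (D : Cen f)
include D

theorem z_sq : f 2 * f 2 = 1 := (D.emb.sq_one_iff (by omega)).2 u_facts.2.2.1

theorem z_ne : f 2 ≠ 1 := fun h => absurd ((D.emb.eq_one_iff (by omega)).1 h) (by omega)

omit D in
theorem sim_refl (x : H) : Sim f x x := Or.inl rfl

theorem sim_mul_z (x : H) : Sim f x (x * f 2) := Or.inr rfl

theorem sim_symm {x y : H} (h : Sim f x y) : Sim f y x := by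
  rcases h with rfl | rfl
  · exact Or.inl rfl
  · exact Or.inr (by rw [mul_assoc, D.z_sq, mul_one])

theorem sim_trans {x y w : H} (h : Sim f x y) (h' : Sim f y w) : Sim f x w := by
  rcases h with rfl | rfl <;> rcases h' with rfl | rfl
  exacts [Or.inl rfl, Or.inr rfl, Or.inr rfl, Or.inl (by rw [mul_assoc, D.z_sq, mul_one])]

theorem sim_conj (g : H) {x y : H} (h : Sim f x y) : Sim f (g * x * g⁻¹) (g * y * g⁻¹) := by
  rcases h with rfl | rfl
  · exact Or.inl rfl
  · refine Or.inr ?_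
    calc g * (x * f 2) * g⁻¹ = g * x * g⁻¹ * (g * f 2 * g⁻¹) := by group
      _ = g * x * g⁻¹ * f 2 := by rw [D.central g, mul_inv_cancel_right]

theorem sim_mul {x y x' y' : H} (h : Sim f x y) (h' : Sim f x' y') : Sim f (x * x') (y * y') := by
  have hc := D.central
  rcases h with rfl | rfl <;> rcases h' with rfl | rfl
  · exact Or.inl rfl
  · exact Or.inr (mul_assoc _ _ _).symm
  · exact Or.inr (by rw [mul_assoc, ← hc, mul_assoc])
  · refine Or.inl ?_
    calc x * f 2 * (x' * f 2) = x * (f 2 * x') * f 2 := by group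
      _ = x * x' * (f 2 * f 2) := by rw [← hc x']; group
      _ = x * x' := by rw [D.z_sq, mul_one]

theorem sim_label {a b : ℕ} (ha : a < 128) (hb : b < 128) : Sim f (f a) (f b) ↔ b = a ∨ b = mulN a 2 := by
  rw [Sim, ← D.emb.hom a 2 ha (by omega)]
  exact ⟨Or.imp (D.emb.inj _ _ hb ha) (D.emb.inj _ _ hb (mulN_lt _ _)), Or.imp (congrArg f) (congrArg f)⟩

theorem sim_one {a : ℕ} (ha : a < 128) : Sim f 1 (f a) ↔ zc a = true := by
  rw [← D.emb.one, D.sim_label (by omega) ha, (group_check 2 (by omega)).2.2.2]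
  simp [zc]

theorem sim_cm {a x : ℕ} (ha : a < 128) (hx : x < 128) :
    Sim f (f x) (f a * f x * (f a)⁻¹) ↔ zc (cm a x) = true := by
  rw [← D.sim_one (show cm a x < 128 from mulN_lt _ _), D.emb.comm ha hx]
  constructor
  · intro h
    have := D.sim_mul h (sim_refl (f := f) (f x)⁻¹)
    rwa [mul_inv_cancel] at this
  · intro h
    have := D.sim_mul h (sim_refl (f := f) (f x))
    rwa [one_mul, inv_mul_cancel_right] at this

/-- The elements fixing an element up to the central involution. -/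
def stabMod (x : H) : Subgroup H where
  carrier := {h | Sim f x (h * x * h⁻¹)}
  one_mem' := Or.inl (by group)
  mul_mem' := by
    intro a b ha hb
    show Sim f x (a * b * x * (a * b)⁻¹)
    rw [show a * b * x * (a * b)⁻¹ = a * (b * x * b⁻¹) * a⁻¹ by group]
    exact D.sim_trans ha (D.sim_conj a hb)
  inv_mem' := by
    intro a ha
    show Sim f x (a⁻¹ * x * a⁻¹⁻¹)
    have := D.sim_conj a⁻¹ ha
    rw [show a⁻¹ * (a * x * a⁻¹) * a⁻¹⁻¹ = x by group] at this
    exact D.sim_symm this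

theorem mem_stabMod {x h : H} : h ∈ D.stabMod x ↔ Sim f x (h * x * h⁻¹) := Iff.rfl

/-- The extraspecial subgroup. -/
def qs : Subgroup H where
  carrier := {g | ∃ a, a < 128 ∧ inQ a = true ∧ f a = g}
  one_mem' := ⟨0, by omega, q_mem.1, D.emb.one⟩
  mul_mem' := by
    rintro _ _ ⟨a, ha, hqa, rfl⟩ ⟨b, hb, hqb, rfl⟩
    exact ⟨mulN a b, mulN_lt _ _, (q_closed a ha b hb hqa hqb).1, D.emb.hom a b ha hb⟩
  inv_mem' := by
    rintro _ ⟨a, ha, hqa, rfl⟩
    exact ⟨invN a, invN_lt _, (q_square a ha hqa).2, D.emb.inv ha⟩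

theorem qs_le : D.qs ≤ D.emb.range := by
  rintro _ ⟨a, ha, -, rfl⟩
  exact D.emb.apply_mem ha

theorem mem_qs {a : ℕ} (ha : a < 128) : f a ∈ D.qs ↔ inQ a = true :=
  ⟨fun ⟨b, hb, hqb, e⟩ => D.emb.inj b a hb ha e ▸ hqb, fun h => ⟨a, ha, h, rfl⟩⟩

theorem card_qs : Nat.card D.qs = 32 := by
  rw [D.emb.card_subset D.qs D.qs_le _ fun a ha => D.mem_qs ha]
  exact q_count

theorem flat_qs : Flat f D.qs := by
  rintro _ ⟨a, ha, hqa, rfl⟩
  refine ⟨?_, ?_⟩
  · rw [← D.emb.hom a a ha ha, D.sim_one (mulN_lt _ _)]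
    exact (q_square a ha hqa).1
  · rintro _ ⟨b, hb, hqb, rfl⟩
    exact (D.sim_cm ha hb).2 (q_closed a ha b hb hqa hqb).2

theorem flat_map {A : Subgroup H} (hA : Flat f A) (g : H) : Flat f (A.map (MulAut.conj g).toMonoidHom) := by
  rintro _ ⟨a, ha, rfl⟩
  simp only [MulEquiv.coe_toMonoidHom, MulAut.conj_apply]
  refine ⟨?_, ?_⟩
  · have := D.sim_conj g (hA a ha).1
    rwa [show g * 1 * g⁻¹ = 1 by group, show g * (a * a) * g⁻¹ = g * a * g⁻¹ * (g * a * g⁻¹) by group] at this
  · rintro _ ⟨b, hb, rfl⟩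
    simp only [MulEquiv.coe_toMonoidHom, MulAut.conj_apply]
    have := D.sim_conj g ((hA a ha).2 b hb)
    rwa [show g * (a * b * a⁻¹) * g⁻¹ = g * a * g⁻¹ * (g * b * g⁻¹) * (g * a * g⁻¹)⁻¹ by group] at this

theorem card_cz {x : ℕ} (hx : x < 128) :
    Nat.card ↥(D.emb.range ⊓ D.stabMod (f x)) = (List.range 128).countP fun y => zc (cm y x) := by
  refine D.emb.card_subset _ inf_le_left _ fun a ha => ?_
  rw [Subgroup.mem_inf, D.mem_stabMod, D.sim_cm ha hx]
  exact ⟨fun h => h.2, fun h => ⟨D.emb.apply_mem ha, h⟩⟩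

variable [Finite H]

/-- The extraspecial subgroup is the only flat subgroup of order 32 in the image. -/
theorem eq_qs {A : Subgroup H} (hA : Flat f A) (hle : A ≤ D.emb.range) (hc : Nat.card A = 32) : A = D.qs := by
  refine Subgroup.eq_of_le_of_card_ge (fun a ha => ?_) (by rw [D.card_qs, hc])
  obtain ⟨x, hx, rfl⟩ := hle ha
  rw [D.mem_qs hx]
  by_contra hq
  rw [Bool.not_eq_true] at hq
  have hxx : zc (mulN x x) = true := by
    rw [← D.sim_one (mulN_lt _ _), D.emb.hom x x hx hx]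
    exact (hA _ ha).1
  obtain ⟨p, hp, hpx, r, hr, hrx, hne⟩ := out_nonabelian x hx hq hxx
  have hAeq : A = D.emb.range ⊓ D.stabMod (f x) :=
    Subgroup.eq_of_le_of_card_ge (le_inf hle fun b hb => (hA b hb).2 _ ha)
      (by rw [D.card_cz hx, out_cent_count x hx hq hxx, hc])
  have hmem : ∀ y, y < 128 → zc (cm y x) = true → f y ∈ A := fun y hy h => by
    rw [hAeq]; exact ⟨D.emb.apply_mem hy, (D.sim_cm hy hx).2 h⟩
  have := (D.sim_cm hp hr).1 ((hA _ (hmem p hp hpx)).2 _ (hmem r hr hrx))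
  rw [hne] at this
  exact Bool.false_ne_true this

omit [Finite H] in
/-- A 2-group normalised setting: the image normalises the extraspecial subgroup. -/
theorem range_le_normalizer : D.emb.range ≤ Subgroup.normalizer (D.qs : Set H) := by
  rintro _ ⟨a, ha, rfl⟩
  rw [Subgroup.mem_normalizer_iff]
  have key : ∀ s, s < 128 → ∀ g ∈ D.qs, f s * g * (f s)⁻¹ ∈ D.qs := by
    rintro s hs _ ⟨b, hb, hqb, rfl⟩
    rw [show f s * f b * (f s)⁻¹ = f s * f b * (f s)⁻¹ * (f b)⁻¹ * f b by group, ← D.emb.comm hs hb]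
    exact mul_mem ((D.mem_qs (mulN_lt _ _)).2 (q_derived s hs b hb)) ((D.mem_qs hb).2 hqb)
  intro g
  refine ⟨key a ha g, fun h => ?_⟩
  have := key (invN a) (invN_lt a) _ h
  rwa [D.emb.inv ha, show (f a)⁻¹ * (f a * g * (f a)⁻¹) * (f a)⁻¹⁻¹ = g by group] at this

omit [Finite H] in
theorem u_range_le_stabMod : D.emb.range ≤ D.stabMod (f 1) := by
  rintro _ ⟨a, ha, rfl⟩
  rw [D.mem_stabMod, ← D.emb.conj ha (by omega), D.sim_label (by omega) (show cj a 1 < 128 from mulN_lt _ _),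
    show mulN 1 2 = 8 from u_facts.2.2.2.1]
  exact (act_check a ha).1

/-- A 2-subgroup of a subgroup containing the image is conjugate in it into the image. -/
theorem exists_conj_mem {K T : Subgroup H} (hK : D.emb.range ≤ K) (hT : IsPGroup 2 T) (hTK : T ≤ K) :
    ∃ k ∈ K, ∀ t ∈ T, k * t * k⁻¹ ∈ D.emb.range := by
  haveI : Fact (Nat.Prime 2) := ⟨Nat.prime_two⟩
  have hS : IsPGroup 2 ↥(D.emb.range.subgroupOf K) :=
    (D.emb.isPGroup_range).comap_of_injective K.subtype K.subtype_injective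
  have hodd : ¬ 2 ∣ (D.emb.range.subgroupOf K).index :=
    fun h => D.odd (h.trans (Subgroup.relIndex_dvd_index_of_le hK))
  obtain ⟨R, hR⟩ := (hT.comap_of_injective K.subtype K.subtype_injective).exists_le_sylow
  obtain ⟨k, hk⟩ := MulAction.exists_smul_eq K R (hS.toSylow hodd)
  refine ⟨k, k.2, fun t ht => ?_⟩
  have h1 : k • (⟨t, hTK ht⟩ : K) = k * ⟨t, hTK ht⟩ := rfl
  have h := Subgroup.smul_mem_pointwise_smul _ (MulAut.conj k) _ (hR (show (⟨t, hTK ht⟩ : K) ∈ _ from ht))
  change MulAut.conj k • (⟨t, hTK ht⟩ : K) ∈ ((k • R : Sylow 2 K) : Subgroup K) at h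
  rw [hk, IsPGroup.toSylow_coe, Subgroup.mem_subgroupOf] at h
  exact h

/-- The normaliser fuses the outside involution into the second centre. -/
theorem exists_fuse_normalizer :
    ∃ n ∈ Subgroup.normalizer (D.qs : Set H), Sim f (f 1) (n * f 5 * n⁻¹) := by
  haveI : Fact (Nat.Prime 2) := ⟨Nat.prime_two⟩
  obtain ⟨g, hg⟩ := D.fuse
  set K := D.stabMod (f 1)
  set B := D.qs.map (MulAut.conj g).toMonoidHom
  have hcB : Nat.card B = 32 := by
    rw [Nat.card_congr (Subgroup.equivMapOfInjective D.qs (MulAut.conj g).toMonoidHom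
      (MulAut.conj g).injective).toEquiv.symm, D.card_qs]
  have hBK : B ≤ K := by
    intro b hb
    refine ((D.flat_map D.flat_qs g) b hb).2 _ ?_
    exact ⟨f 5, (D.mem_qs (by omega)).2 q_mem.2.2.2.1, hg⟩
  obtain ⟨k, hk, hkB⟩ := D.exists_conj_mem (K := K) D.u_range_le_stabMod
    ((IsPGroup.of_card (n := 5) (by rw [hcB]; norm_num)) : IsPGroup 2 B) hBK
  have he : D.qs.map (MulAut.conj (k * g)).toMonoidHom = D.qs := by
    refine D.eq_qs (D.flat_map D.flat_qs _) ?_ ?_
    · rintro _ ⟨q, hq, rfl⟩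
      have := hkB (g * q * g⁻¹) ⟨q, hq, rfl⟩
      simpa [mul_assoc] using this
    · rw [Nat.card_congr (Subgroup.equivMapOfInjective D.qs (MulAut.conj (k * g)).toMonoidHom
        (MulAut.conj (k * g)).injective).toEquiv.symm, D.card_qs]
  refine ⟨k * g, Subgroup.mem_normalizer_iff.2 fun x => ?_, ?_⟩
  · constructor
    · intro hx
      rw [← he]
      exact ⟨x, hx, rfl⟩
    · intro hx
      rw [← he] at hx
      obtain ⟨y, hy, e⟩ := hx
      simp only [MulEquiv.coe_toMonoidHom, MulAut.conj_apply] at e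
      rwa [mul_left_cancel (mul_right_cancel e)] at hy
  · rw [show k * g * f 5 * (k * g)⁻¹ = k * (g * f 5 * g⁻¹) * k⁻¹ by group, hg]
    exact hk

end Cen

end Cfsg.Agent.J2Type
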