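import Cfsg.Agent.Lib.J2Type.Embed
import Cfsg.Agent.Lib.SevenInv.Count
import Mathlib.Tactic.NormNum

/-!
Thompson transfer: without a subgroup of index two, the involution outside the centraliser of the second centre is
fused into the second centre by an element centralising the central involution.
-/

set_option autoImplicit false
set_option linter.style.haveILetI false

namespace Cfsg.Agent.J2Type

variable {G : Type*} [Group G] [Finite G] {f : ℕ → G} (E : Emb f)
include E

namespace Emb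

omit [Finite G] in
theorem uc_cases {x : ℕ} (h : uc x = true) : x = 0 ∨ x = 2 ∨ x = 1 ∨ x = 8 := by
  simpa [uc, or_assoc] using h

omit [Finite G] in
theorem zc_cases {x : ℕ} (h : zc x = true) : x = 0 ∨ x = 2 := by
  simpa [zc] using h

omit [Finite G] in
theorem isPGroup_range : IsPGroup 2 E.range := IsPGroup.of_card (n := 7) (by rw [E.card_range]; norm_num)

/-- The image as a Sylow subgroup. -/
theorem exists_sylow_range (hodd : ¬ 2 ∣ E.range.index) : ∃ P : Sylow 2 G, (P : Subgroup G) = E.range :=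
  ⟨E.isPGroup_range.toSylow hodd, IsPGroup.toSylow_coe _ _⟩

/-- A 2-subgroup is conjugate into the image. -/
theorem exists_conj_le (hodd : ¬ 2 ∣ E.range.index) {T : Subgroup G} (hT : IsPGroup 2 T) :
    ∃ g : G, ∀ t ∈ T, g * t * g⁻¹ ∈ E.range := by
  haveI : Fact (Nat.Prime 2) := ⟨Nat.prime_two⟩
  obtain ⟨P, hP⟩ := E.exists_sylow_range hodd
  obtain ⟨R, hR⟩ := hT.exists_le_sylow
  obtain ⟨g, hg⟩ := MulAction.exists_smul_eq G R P
  refine ⟨g, fun t ht => ?_⟩
  rw [← hP, ← hg]
  exact Subgroup.smul_mem_pointwise_smul _ (MulAut.conj g) _ (hR ht)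

/-- A 2-subgroup fixing a label of the image under conjugation. -/
theorem cent_large {T : Subgroup G} {g : G} {x : ℕ} (hx : x < 128)
    (hT : ∀ t ∈ T, g * t * g⁻¹ ∈ E.range ∧ g * t * g⁻¹ * f x = f x * (g * t * g⁻¹)) :
    Nat.card T ≤ centCount x := by
  rw [← E.card_centralizer hx]
  refine Nat.card_le_card_of_injective
    (fun t : T => (⟨g * t * g⁻¹, (hT t t.2).1, Subgroup.mem_centralizer_singleton_iff.2 (hT t t.2).2⟩ :
      ↥(E.range ⊓ Subgroup.centralizer ({f x} : Set G)))) fun a b h => ?_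
  have := congrArg Subtype.val h
  simpa using this

/-- An involution of the image with a large centraliser in it lies in the second centre. -/
theorem uc_of_large {x : ℕ} (hx : x < 128) (hi : mulN x x = 0) (hc : 16 < centCount x) : uc x = true :=
  (invol_check x hx hi).resolve_right (by omega)

/-- A Sylow 2-subgroup of a centraliser, above a given 2-subgroup. -/
theorem exists_sylow_cent {w : G} {A : Subgroup G} (hA : IsPGroup 2 A)
    (hAw : ∀ a ∈ A, a * w = w * a) :
    ∃ T : Subgroup G, A ≤ T ∧ IsPGroup 2 T ∧ (∀ t ∈ T, t * w = w * t) ∧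
      ∀ n, 2 ^ n ∣ Nat.card (Subgroup.centralizer ({w} : Set G)) → 2 ^ n ≤ Nat.card T := by
  haveI : Fact (Nat.Prime 2) := ⟨Nat.prime_two⟩
  set K := Subgroup.centralizer ({w} : Set G)
  have hle : A ≤ K := fun a ha => Subgroup.mem_centralizer_singleton_iff.2 (hAw a ha)
  obtain ⟨T, hT⟩ := (hA.comap_of_injective K.subtype K.subtype_injective).exists_le_sylow
  refine ⟨(T : Subgroup K).map K.subtype, fun a ha => ⟨⟨a, hle ha⟩, hT ha, rfl⟩, T.isPGroup'.map _, ?_, ?_⟩
  · rintro _ ⟨⟨t, ht⟩, -, rfl⟩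
    exact Subgroup.mem_centralizer_singleton_iff.1 ht
  · intro n hn
    rw [Nat.card_congr (Subgroup.equivMapOfInjective (T : Subgroup K) K.subtype K.subtype_injective).toEquiv.symm]
    rw [T.card_eq_multiplicity]
    exact Nat.pow_le_pow_right (by norm_num)
      ((Nat.prime_two.pow_dvd_iff_le_factorization Nat.card_pos.ne').1 hn)

omit E [Finite G] in
theorem conj_comm (g : G) {t w : G} (h : t * w = w * t) :
    g * t * g⁻¹ * (g * w * g⁻¹) = g * w * g⁻¹ * (g * t * g⁻¹) :=
  calc g * t * g⁻¹ * (g * w * g⁻¹) = g * (t * w) * g⁻¹ := by group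
    _ = g * (w * t) * g⁻¹ := by rw [h]
    _ = _ := by group

/-- A centraliser containing a conjugate of the image. -/
theorem dvd_cent {w g : G} (hw : g * f 2 * g⁻¹ = w) :
    2 ^ 7 ∣ Nat.card (Subgroup.centralizer ({w} : Set G)) := by
  have hle : E.range.map (MulAut.conj g).toMonoidHom ≤ Subgroup.centralizer ({w} : Set G) := by
    rintro _ ⟨_, ⟨a, ha, rfl⟩, rfl⟩
    rw [Subgroup.mem_centralizer_singleton_iff, ← hw]
    exact conj_comm g ((E.commute_iff ha (by omega)).2 (z_check a ha))
  have h := Subgroup.card_dvd_of_le hle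
  rw [Nat.card_congr (Subgroup.equivMapOfInjective E.range (MulAut.conj g).toMonoidHom
    (MulAut.conj g).injective).toEquiv.symm, E.card_range] at h
  exact h

/-- Without a subgroup of index two the centraliser of the outside involution has larger 2-part. -/
theorem dvd_cent_five (hodd : ¬ 2 ∣ E.range.index) (h2 : ∀ H : Subgroup G, H.index ≠ 2) :
    2 ^ 5 ∣ Nat.card (Subgroup.centralizer ({f 5} : Set G)) := by
  classical
  obtain ⟨h11, -, -, -, -, -, -, h55, h51, -, -⟩ := u_facts
  set W := (Subgroup.centralizer ({f 1} : Set G)).subgroupOf E.range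
  have hWiff : ∀ a (ha : a < 128), (⟨f a, E.apply_mem ha⟩ : E.range) ∈ W ↔ mulN a 1 = mulN 1 a := by
    intro a ha
    rw [Subgroup.mem_subgroupOf, Subgroup.mem_centralizer_singleton_iff]
    exact E.commute_iff ha (by omega)
  have hW : W.index = 2 := by
    have h := W.card_mul_index
    have hc : Nat.card W = 64 := by
      have e : W = (E.range ⊓ Subgroup.centralizer ({f 1} : Set G)).subgroupOf E.range :=
        (Subgroup.inf_subgroupOf_left _ _).symm
      rw [e, Nat.card_congr (Subgroup.subgroupOfEquivOfLe inf_le_left).toEquiv, E.card_centralizer (by omega)]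
      exact u_count.1
    rw [hc, E.card_range] at h
    omega
  let φ : E.range →* ℤˣ :=
    { toFun := fun x => if x ∈ W then 1 else -1
      map_one' := if_pos W.one_mem
      map_mul' := fun x y => by
        by_cases hx : x ∈ W <;> by_cases hy : y ∈ W <;>
          simp [hx, hy, Subgroup.mul_mem_iff_of_index_two hW] }
  have hneg : ∀ a (ha : a < 128), φ ⟨f a, E.apply_mem ha⟩ = -1 ↔ mulN a 1 ≠ mulN 1 a := by
    intro a ha
    rw [ne_eq, ← hWiff a ha]
    show (if _ then (1 : ℤˣ) else -1) = -1 ↔ _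
    by_cases h : (⟨f a, E.apply_mem ha⟩ : E.range) ∈ W <;> simp [h]
  set q := f 5
  have hq2 : q * q = 1 := (E.sq_one_iff (by omega)).2 h55
  have hset : Nat.card (SevenInv.negConj φ q) = 8 := by
    set s : Finset ℕ := (Finset.range 128).filter fun a => mulN a a = 0 ∧ mulN a 1 ≠ mulN 1 a
    have hs : s.card = 8 := by decide +kernel
    have himg : SevenInv.negConj φ q = f '' (s : Set ℕ) := by
      ext y
      constructor
      · rintro ⟨hc, ⟨a, ha, rfl⟩, hφ⟩
        obtain ⟨g, hg⟩ := isConj_iff.1 hc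
        refine ⟨a, Finset.mem_filter.2 ⟨Finset.mem_range.2 ha, (E.sq_one_iff ha).1 ?_, (hneg a ha).1 hφ⟩, rfl⟩
        rw [← hg, show g * q * g⁻¹ * (g * q * g⁻¹) = g * (q * q) * g⁻¹ by group, hq2]
        group
      · rintro ⟨a, ha, rfl⟩
        obtain ⟨ha, hsq, hne⟩ := Finset.mem_filter.1 ha
        rw [Finset.mem_range] at ha
        obtain ⟨k, hk, e⟩ := outside_check a ha hsq hne
        exact ⟨isConj_iff.2 ⟨f k, by rw [← E.conj hk (by omega), e]⟩, E.apply_mem ha, (hneg a ha).2 hne⟩
    rw [himg, Nat.card_image_of_injOn, Nat.card_coe_set_eq, Set.ncard_coe_finset, hs]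
    intro a ha b hb h
    exact E.inj a b (Finset.mem_range.1 (Finset.mem_filter.1 ha).1) (Finset.mem_range.1 (Finset.mem_filter.1 hb).1) h
  obtain ⟨M, hM⟩ : 16 ∣ Nat.card (Subgroup.centralizer ({q} : Set G)) := by
    rw [← show Nat.card ↥(E.range ⊓ Subgroup.centralizer ({q} : Set G)) = 16 by
      rw [E.card_centralizer (by omega)]; exact u_count.2.2]
    exact Subgroup.card_dvd_of_le inf_le_right
  rcases Nat.even_or_odd M with ⟨m, rfl⟩ | hodd'
  · exact ⟨m, by rw [hM]; ring⟩
  · obtain ⟨H, hH⟩ := SevenInv.index_two_of_count φ q (by rw [pow_two]; exact hq2) hodd'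
      (by rw [hset, hM, E.card_range]; ring)
    exact absurd hH (h2 H)

/-- The fusion. -/
theorem exists_fuse (hodd : ¬ 2 ∣ E.range.index) (h2 : ∀ H : Subgroup G, H.index ≠ 2) :
    ∃ g : G, g * f 2 = f 2 * g ∧ g * f 5 * g⁻¹ = f 1 := by
  classical
  obtain ⟨h11, h88, h22, -, -, h318, h381, h55, h51, h35, h33⟩ := u_facts
  suffices h : ∃ g : G, g * f 2 = f 2 * g ∧ (g * f 5 * g⁻¹ = f 1 ∨ g * f 5 * g⁻¹ = f 8) by
    obtain ⟨g, hg, e | e⟩ := h
    · exact ⟨g, hg, e⟩
    · refine ⟨f 3 * g, ?_, ?_⟩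
      · calc f 3 * g * f 2 = f 3 * (g * f 2) := by group
          _ = f 3 * f 2 * g := by rw [hg]; group
          _ = f 2 * (f 3 * g) := by rw [(E.commute_iff (by omega) (by omega)).2 (z_check 3 (by omega))]; group
      · rw [show f 3 * g * f 5 * (f 3 * g)⁻¹ = f 3 * (g * f 5 * g⁻¹) * (f 3)⁻¹ by group, e,
          ← E.conj (by omega) (by omega), h381]
  set A := E.range ⊓ Subgroup.centralizer ({f 5} : Set G)
  obtain ⟨T, hAT, hT2, hTq, hTbig⟩ := E.exists_sylow_cent (w := f 5) (E.isPGroup_range.to_le inf_le_left : IsPGroup 2 A)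
    fun a ha => Subgroup.mem_centralizer_singleton_iff.1 (Subgroup.mem_inf.1 ha).2
  have hT32 := hTbig 5 (E.dvd_cent_five hodd h2)
  obtain ⟨g, hg⟩ := E.exists_conj_le hodd hT2
  have hmemA : ∀ a, a < 128 → mulN a 5 = mulN 5 a → f a ∈ A := fun a ha h =>
    ⟨E.apply_mem ha, Subgroup.mem_centralizer_singleton_iff.2 ((E.commute_iff ha (by omega)).2 h)⟩
  obtain ⟨x, hx, ew⟩ := hg _ (hAT (hmemA 5 (by omega) rfl))
  obtain ⟨y, hy, ec⟩ := hg _ (hAT (hmemA 3 (by omega) h35))
  have hgT : ∀ t ∈ T, g * t * g⁻¹ ∈ E.range ∧ g * t * g⁻¹ * f x = f x * (g * t * g⁻¹) := fun t ht =>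
    ⟨hg t ht, by rw [ew]; exact conj_comm g (hTq t ht)⟩
  have hxx : mulN x x = 0 := by
    refine (E.sq_one_iff hx).1 ?_
    rw [ew, show g * f 5 * g⁻¹ * (g * f 5 * g⁻¹) = g * (f 5 * f 5) * g⁻¹ by group,
      (E.sq_one_iff (by omega)).2 h55]
    group
  have hxu := E.uc_of_large hx hxx (lt_of_lt_of_le (by omega) (E.cent_large hx hgT))
  have hx0 : x ≠ 0 := fun e => by
    rw [e, E.one] at ew
    have : f 5 = 1 := conj_eq_one_iff.1 ew.symm
    exact absurd ((E.eq_one_iff (by omega)).1 this) (by omega)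
  set y2 := mulN y y with hy2
  have ey : f y2 = g * f 2 * g⁻¹ := by
    rw [hy2, E.hom y y hy hy, ec, show g * f 3 * g⁻¹ * (g * f 3 * g⁻¹) = g * (f 3 * f 3) * g⁻¹ by group,
      ← E.hom 3 3 (by omega) (by omega), h33]
  have hyy : mulN y2 y2 = 0 := by
    refine (E.sq_one_iff (mulN_lt _ _)).1 ?_
    rw [ey, show g * f 2 * g⁻¹ * (g * f 2 * g⁻¹) = g * (f 2 * f 2) * g⁻¹ by group,
      (E.sq_one_iff (by omega)).2 h22]
    group
  have hy0 : y2 ≠ 0 := fun e => by
    rw [e, E.one] at ey
    have : f 2 = 1 := conj_eq_one_iff.1 ey.symm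
    exact absurd ((E.eq_one_iff (by omega)).1 this) (by omega)
  have hyx : y2 ≠ x := fun e => by
    rw [e, ew] at ey
    have : f 5 = f 2 := mul_left_cancel (mul_right_cancel ey)
    exact absurd (E.inj _ _ (by omega) (by omega) this) (by omega)
  have hyu := square_check y hy hyy
  by_cases hx2 : x = 2
  · subst hx2
    have hy18 : y2 = 1 ∨ y2 = 8 := by
      rcases E.uc_cases hyu with e | e | e | e
      exacts [absurd e hy0, absurd e hyx, Or.inl e, Or.inr e]
    have hcount : centCount y2 = 64 := by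
      rcases hy18 with e | e <;> rw [e]
      exacts [u_count.1, u_count.2.1]
    obtain ⟨R, hWR, hR2, hRc, hRbig⟩ := E.exists_sylow_cent (w := f y2)
      (E.isPGroup_range.to_le inf_le_left : IsPGroup 2 ↥(E.range ⊓ Subgroup.centralizer ({f y2} : Set G)))
      fun a ha => Subgroup.mem_centralizer_singleton_iff.1 (Subgroup.mem_inf.1 ha).2
    have hR128 := hRbig 7 (E.dvd_cent ey.symm)
    obtain ⟨k, hk⟩ := E.exists_conj_le hodd hR2
    have hWmem : ∀ a, a < 128 → mulN a y2 = mulN y2 a → f a ∈ R := fun a ha h =>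
      hWR ⟨E.apply_mem ha, Subgroup.mem_centralizer_singleton_iff.2 ((E.commute_iff ha (mulN_lt _ _)).2 h)⟩
    have hall : E.range ≤ R.map (MulAut.conj k).toMonoidHom := by
      refine (Subgroup.eq_of_le_of_card_ge (show R.map (MulAut.conj k).toMonoidHom ≤ E.range from ?_) ?_).ge
      · rintro _ ⟨t, ht, rfl⟩
        exact hk t ht
      · rw [E.card_range, Nat.card_congr (Subgroup.equivMapOfInjective R (MulAut.conj k).toMonoidHom
          (MulAut.conj k).injective).toEquiv.symm]
        omega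
    obtain ⟨a, ha, ea⟩ := hk _ (hWmem y2 (mulN_lt _ _) rfl)
    have ha2 : a = 2 := by
      have hz : zc a = true := centre_check a ha fun h hh => by
        obtain ⟨t, ht, et⟩ := hall (E.apply_mem (genL_lt h hh))
        refine (E.commute_iff ha (genL_lt h hh)).1 ?_
        rw [ea, ← et]
        exact (conj_comm k (hRc t ht)).symm
      rcases E.zc_cases hz with e | e
      · rw [e, E.one] at ea
        have : f y2 = 1 := conj_eq_one_iff.1 ea.symm
        exact absurd ((E.eq_one_iff (mulN_lt _ _)).1 this) hy0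
      · exact e
    subst ha2
    obtain ⟨b, hb, eb⟩ := hk _ (hWmem 2 (by omega) (z_check y2 (mulN_lt _ _)).symm)
    have hbb : mulN b b = 0 := by
      refine (E.sq_one_iff hb).1 ?_
      rw [eb, show k * f 2 * k⁻¹ * (k * f 2 * k⁻¹) = k * (f 2 * f 2) * k⁻¹ by group,
        (E.sq_one_iff (by omega)).2 h22]
      group
    have hbc : 64 ≤ centCount b := by
      rw [← hcount, ← E.card_centralizer (mulN_lt y y)]
      refine E.cent_large (g := k) hb fun t ht => ⟨hk t (hWR ht), ?_⟩
      rw [eb]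
      refine conj_comm k ?_
      obtain ⟨a', ha', rfl⟩ := (Subgroup.mem_inf.1 ht).1
      exact (E.commute_iff ha' (by omega)).2 (z_check a' ha')
    have hbu := E.uc_of_large hb hbb (by omega)
    refine ⟨k * g, ?_, ?_⟩
    · rw [← mul_inv_eq_iff_eq_mul, show k * g * f 2 * (k * g)⁻¹ = k * (g * f 2 * g⁻¹) * k⁻¹ by group, ← ey, ← ea]
    · rw [show k * g * f 5 * (k * g)⁻¹ = k * (g * f 5 * g⁻¹) * k⁻¹ by group, ← ew, ← eb]
      rcases E.uc_cases hbu with e | e | e | e
      · rw [e, E.one] at eb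
        have : f 2 = 1 := conj_eq_one_iff.1 eb.symm
        exact absurd ((E.eq_one_iff (by omega)).1 this) (by omega)
      · exfalso
        rw [e] at eb
        have e1 : k * f y2 * k⁻¹ = k * f 2 * k⁻¹ := by rw [← ea, ← eb]
        exact hyx (E.inj _ _ (mulN_lt _ _) (by omega) (mul_left_cancel (mul_right_cancel e1)))
      · exact Or.inl (by rw [e])
      · exact Or.inr (by rw [e])
  · have hx18 : x = 1 ∨ x = 8 := by
      rcases E.uc_cases hxu with e | e | e | e
      exacts [absurd e hx0, absurd e hx2, Or.inl e, Or.inr e]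
    have hT64 : Nat.card T ≤ 64 := by
      refine (E.cent_large hx hgT).trans (le_of_eq ?_)
      rcases hx18 with e | e <;> rw [e]
      exacts [u_count.1, u_count.2.1]
    have hy22 : y2 = 2 := by
      by_contra hne
      have h18 : y2 = 1 ∨ y2 = 8 := by
        rcases E.uc_cases hyu with e | e | e | e
        exacts [absurd e hy0, absurd e hne, Or.inl e, Or.inr e]
      have hsw : f 3 * f y2 * (f 3)⁻¹ = f x := by
        rw [← E.conj (by omega) (mulN_lt _ _)]
        rcases h18 with e | e <;> rcases hx18 with e' | e'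
        exacts [absurd (e.trans e'.symm) hyx, by rw [show mulN y y = 1 from e, e', h318],
          by rw [show mulN y y = 8 from e, e', h381],
          absurd (e.trans e'.symm) hyx]
      have hd := E.dvd_cent (w := f 5) (g := g⁻¹ * (f 3 * g)) (by
        rw [show g⁻¹ * (f 3 * g) * f 2 * (g⁻¹ * (f 3 * g))⁻¹ = g⁻¹ * (f 3 * (g * f 2 * g⁻¹) * (f 3)⁻¹) * g by group,
          ← ey, hsw, ew]
        group)
      have := hTbig 7 hd
      omega
    refine ⟨g, ?_, ?_⟩
    · rw [← mul_inv_eq_iff_eq_mul, ← ey, hy22]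
    · rw [← ew]
      rcases hx18 with e | e <;> rw [e]
      exacts [Or.inl rfl, Or.inr rfl]

end Emb

end Cfsg.Agent.J2Type
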