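import Cfsg.Agent.Lib.J2Type.Points

/-!
An involution outside the extraspecial subgroup is not fused, modulo the central involution, into it.
-/

set_option autoImplicit false
set_option linter.style.haveILetI false

namespace Cfsg.Agent.J2Type

variable {H : Type*} [Group H] {f : ℕ → H}

namespace Cen

variable (D : Cen f)
include D

omit D in
theorem u_sim_cases {a : ℕ} (h : a = 1 ∨ a = mulN 1 2) : a = 1 ∨ a = 8 := by
  rwa [u_facts.2.2.2.1] at h

theorem sim_u {a : ℕ} (ha : a < 128) : Sim f (f 1) (f a) ↔ a = 1 ∨ a = 8 := by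
  rw [D.sim_label (by omega) ha, u_facts.2.2.2.1]

theorem comm_u_of_sim {x : H} (h : x * f 1 = f 1 * x) {y : H} (hy : Sim f (f 1) y) : x * y = y * x := by
  rcases hy with rfl | rfl
  · exact h
  · exact (Commute.mul_right h (D.central x)).eq

variable [Finite H]

/-- The outside involutions stay outside. -/
theorem outside_not_point {x : ℕ} (hx : x < 128) (hq : inQ x = false) (hxx : zc (mulN x x) = true) (h : H) :
    ¬ Sim f (f 1) (h * f x * h⁻¹) := by
  intro hh
  have hx2 := out_invol x hx hq hxx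
  set T := D.emb.range ⊓ D.stabMod (f x)
  set B := T.map (MulAut.conj h).toMonoidHom
  have hBK : B ≤ D.stabMod (f 1) := by
    rintro _ ⟨t, ht, rfl⟩
    simp only [MulEquiv.coe_toMonoidHom, MulAut.conj_apply]
    have h1 := D.sim_conj h ht.2
    rw [show h * (t * f x * t⁻¹) * h⁻¹ = h * t * h⁻¹ * (h * f x * h⁻¹) * (h * t * h⁻¹)⁻¹ by group] at h1
    exact D.sim_trans (D.sim_trans hh h1) (D.sim_symm (D.sim_conj (h * t * h⁻¹) hh))
  obtain ⟨k, hk, hkB⟩ := D.exists_conj_mem D.u_range_le_stabMod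
    ((D.emb.isPGroup_range.to_le inf_le_left : IsPGroup 2 T).map _) hBK
  set g := k * h with hg
  have hgx : Sim f (f 1) (g * f x * g⁻¹) := by
    rw [hg, show k * h * f x * (k * h)⁻¹ = k * (h * f x * h⁻¹) * k⁻¹ by group]
    exact D.sim_trans hk (D.sim_conj k hh)
  have hgT : ∀ t ∈ T, g * t * g⁻¹ ∈ D.emb.range := fun t ht => by
    have := hkB _ ⟨t, ht, rfl⟩
    simpa [hg, mul_assoc] using this
  obtain ⟨a, ha, hax, b, hb, hbx, hab⟩ := out_derived x hx hq hxx
  have hmem : ∀ y, y < 128 → zc (cm y x) = true → f y ∈ T := fun y hy e =>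
    ⟨D.emb.apply_mem hy, (D.sim_cm hy hx).2 e⟩
  obtain ⟨a', ha', ea⟩ := hgT _ (hmem a ha hax)
  obtain ⟨b', hb', eb⟩ := hgT _ (hmem b hb hbx)
  set y := cm a' b' with hy
  have hylt : y < 128 := mulN_lt _ _
  have hclt : cm a b < 128 := mulN_lt _ _
  have ey : f y = g * f (cm a b) * g⁻¹ := by
    rw [D.emb.comm ha' hb', D.emb.comm ha hb, ea, eb]
    group
  have hyQ : inQ y = true := q_derived a' ha' b' hb'
  have hu0 : Sim f (f 1) (f (cm a b)) := (D.sim_u hclt).2 hab
  have hu0sq : f (cm a b) * f (cm a b) = 1 := by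
    refine (D.emb.sq_one_iff hclt).2 ?_
    rcases hab with e | e <;> rw [e]
    exacts [u_facts.1, u_facts.2.1]
  have hyy : mulN y y = 0 := by
    refine (D.emb.sq_one_iff hylt).1 ?_
    rw [ey, show g * f (cm a b) * g⁻¹ * (g * f (cm a b) * g⁻¹) = g * (f (cm a b) * f (cm a b)) * g⁻¹ by group,
      hu0sq]
    group
  -- the image of the derived involution is outside the second centre
  have hxne : ¬ Sim f (f 1) (f x) := by
    intro e
    rcases (D.sim_u hx).1 e with e1 | e1 <;> rw [e1] at hq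
    exacts [absurd q_mem.2.1 (by simp [hq]), absurd q_mem.2.2.2.2.1 (by simp [hq])]
  have hback : ∀ w, Sim f (f 1) (g * w * g⁻¹) → Sim f (g⁻¹ * f 1 * g) w := fun w hw => by
    have := D.sim_conj g⁻¹ hw
    rwa [inv_inv, show g⁻¹ * (g * w * g⁻¹) * g = w by group] at this
  have hy1 : ¬ Sim f (f 1) (f y) := by
    intro e
    rw [ey] at e
    exact hxne (D.sim_trans hu0 (D.sim_trans (D.sim_symm (hback _ e)) (hback _ hgx)))
  have hyz : ¬ Sim f 1 (f y) := by
    intro e
    rw [ey] at e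
    have h1 := D.sim_conj g⁻¹ e
    rw [inv_inv, show g⁻¹ * (g * f (cm a b) * g⁻¹) * g = f (cm a b) by group,
      show g⁻¹ * 1 * g = 1 by group, D.sim_one hclt] at h1
    rcases hab with e' | e' <;> rw [e'] at h1
    exacts [absurd h1 (by decide), absurd h1 (by decide)]
  obtain ⟨i, hi⟩ := D.exists_point ((D.mem_qs hylt).2 hyQ) ((D.emb.sq_one_iff hylt).2 hyy) hyz
  obtain ⟨n, hn⟩ := D.exists_act_five i
  set g' := (n : H) * g with hg'
  have hgu0 : Sim f (f 1) (g' * f (cm a b) * g'⁻¹) := by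
    have h1 := D.act_spec n i
    rw [hn, show ((4 : Fin 5) : ℕ) = 4 from rfl, q_mem.2.2.2.2.2.2.1] at h1
    rw [hg', show (n : H) * g * f (cm a b) * ((n : H) * g)⁻¹ = n * (g * f (cm a b) * g⁻¹) * (n : H)⁻¹ by group, ← ey]
    exact D.sim_trans h1 (D.sim_conj _ hi)
  have hgu : Sim f (f 1) (g' * f 1 * g'⁻¹) := D.sim_trans hgu0 (D.sim_conj g' (D.sim_symm hu0))
  -- the image of the outside involution is an involution of the extraspecial subgroup outside the second centre
  set o := g' * f x * g'⁻¹ with ho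
  have ho2 : o * o = 1 := by
    rw [ho, show g' * f x * g'⁻¹ * (g' * f x * g'⁻¹) = g' * (f x * f x) * g'⁻¹ by group,
      (D.emb.sq_one_iff hx).2 hx2]
    group
  have honu : Sim f ((n : H) * f 1 * (n : H)⁻¹) o := by
    rw [ho, hg', show (n : H) * g * f x * ((n : H) * g)⁻¹ = n * (g * f x * g⁻¹) * (n : H)⁻¹ by group]
    exact D.sim_conj _ hgx
  have hoQ : o ∈ D.qs := by
    have h1 : (n : H) * f 1 * (n : H)⁻¹ ∈ D.qs :=
      (Subgroup.mem_normalizer_iff.1 n.2 _).1 ((D.mem_qs (by omega)).2 q_mem.2.1)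
    rcases honu with e | e <;> rw [e]
    exacts [h1, mul_mem h1 ((D.mem_qs (by omega)).2 q_mem.2.2.1)]
  obtain ⟨w, hw, hwQ, ew⟩ := hoQ
  have hback' : ∀ v, Sim f (f 1) (g' * v * g'⁻¹) → Sim f (g'⁻¹ * f 1 * g') v := fun v hv => by
    have := D.sim_conj g'⁻¹ hv
    rwa [inv_inv, show g'⁻¹ * (g' * v * g'⁻¹) * g' = v by group] at this
  rcases q_invol_outside w hw hwQ ((D.emb.sq_one_iff hw).1 (by rw [ew]; exact ho2)) with hu | hne
  · rcases D.emb.uc_cases hu with e | e | e | e
    · rw [e, D.emb.one, ho] at ew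
      have : f x = 1 := conj_eq_one_iff.1 ew.symm
      rw [(D.emb.eq_one_iff hx).1 this] at hq
      exact absurd q_mem.1 (by simp [hq])
    · rw [e, ho] at ew
      have h1 : f x = f 2 := by
        have := congrArg (fun v => g'⁻¹ * v * g') ew
        rw [show g'⁻¹ * f 2 * g' = f 2 by rw [D.central, mul_assoc, inv_mul_cancel, mul_one],
          show g'⁻¹ * (g' * f x * g'⁻¹) * g' = f x by group] at this
        exact this.symm
      rw [D.emb.inj _ _ hx (by omega) h1] at hq
      exact absurd q_mem.2.2.1 (by simp [hq])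
    all_goals
      refine hxne (D.sim_trans hu0 (D.sim_trans (D.sim_symm (hback' _ hgu0)) (hback' _ ?_)))
      rw [← ho, ← ew, D.sim_u hw]
    exacts [Or.inl e, Or.inr e]
  · refine hne ?_
    rw [← D.emb.commute_iff hw (by omega), ew]
    have hcx : f x * f 1 = f 1 * f x := (D.emb.commute_iff hx (by omega)).2 (out_commute x hx hq hx2)
    have hc' : o * (g' * f 1 * g'⁻¹) = g' * f 1 * g'⁻¹ * o := Emb.conj_comm g' hcx
    rcases hgu with e | e
    · rwa [e] at hc'
    · rw [e] at hc'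
      calc o * f 1 = o * (f 1 * (f 2 * f 2)) := by rw [D.z_sq, mul_one]
        _ = o * (f 1 * f 2) * f 2 := by simp only [mul_assoc]
        _ = f 1 * f 2 * o * f 2 := by rw [hc']
        _ = f 1 * (f 2 * o) * f 2 := by group
        _ = f 1 * o * (f 2 * f 2) := by rw [← D.central o]; group
        _ = f 1 * o := by rw [D.z_sq, mul_one]

end Cen

end Cfsg.Agent.J2Type
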