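import Cfsg.Agent.Lib.J2Type.Flat
import Cfsg.Agent.Lib.HJ.AltFive
import Mathlib.GroupTheory.SpecificGroups.Alternating
import Mathlib.GroupTheory.GroupAction.Quotient

/-!
The normaliser of the extraspecial subgroup acts on the five singular points as the alternating group.
-/

set_option autoImplicit false
set_option linter.style.haveILetI false

namespace Cfsg.Agent.J2Type

variable {H : Type*} [Group H] {f : ℕ → H}

namespace Cen

variable (D : Cen f)
include D

omit D in
theorem pt_facts (i : Fin 5) : inQ (pt i) = true ∧ pt i < 128 ∧ mulN (pt i) (pt i) = 0 ∧ zc (pt i) = false :=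
  q_mem.2.2.2.2.2.1 i i.2

theorem point_mem (i : Fin 5) : f (pt i) ∈ D.qs := (D.mem_qs (pt_facts i).2.1).2 (pt_facts i).1

/-- A noncentral involution of the extraspecial subgroup is at one of the points. -/
theorem exists_point {g : H} (hg : g ∈ D.qs) (h2 : g * g = 1) (hne : ¬ Sim f 1 g) :
    ∃ j : Fin 5, Sim f (f (pt j)) g := by
  obtain ⟨a, ha, hqa, rfl⟩ := hg
  rcases q_singular a ha hqa ((D.emb.sq_one_iff ha).1 h2) with h | ⟨i, hi, h⟩
  · exact absurd ((D.sim_one ha).2 h) hne
  · exact ⟨⟨i, hi⟩, (D.sim_label (pt_facts ⟨i, hi⟩).2.1 ha).2 h⟩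

theorem point_eq {i j : Fin 5} (h : Sim f (f (pt i)) (f (pt j))) : i = j := by
  have := (D.sim_label (pt_facts i).2.1 (pt_facts j).2.1).1 h
  exact (Fin.ext (q_points j j.2 i i.2 this)).symm

theorem conj_point {n : H} (hn : n ∈ Subgroup.normalizer (D.qs : Set H)) (i : Fin 5) :
    ∃ j : Fin 5, Sim f (f (pt j)) (n * f (pt i) * n⁻¹) := by
  obtain ⟨-, hlt, hsq, hnz⟩ := pt_facts i
  refine D.exists_point ((Subgroup.mem_normalizer_iff.1 hn _).1 (D.point_mem i)) ?_ ?_
  · rw [show n * f (pt i) * n⁻¹ * (n * f (pt i) * n⁻¹) = n * (f (pt i) * f (pt i)) * n⁻¹ by group,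
      (D.emb.sq_one_iff hlt).2 hsq]
    group
  · intro h
    have h' := D.sim_conj n⁻¹ h
    rw [show n⁻¹ * 1 * n⁻¹⁻¹ = 1 by group,
      show n⁻¹ * (n * f (pt i) * n⁻¹) * n⁻¹⁻¹ = f (pt i) by group] at h'
    rw [(D.sim_one hlt).1 h'] at hnz
    exact Bool.noConfusion hnz

/-- The map on the points. -/
noncomputable def pmap (n : ↥(Subgroup.normalizer (D.qs : Set H))) (i : Fin 5) : Fin 5 :=
  (D.conj_point n.2 i).choose

theorem pmap_spec (n : ↥(Subgroup.normalizer (D.qs : Set H))) (i : Fin 5) :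
    Sim f (f (pt (D.pmap n i))) (n * f (pt i) * (n : H)⁻¹) :=
  (D.conj_point n.2 i).choose_spec

theorem pmap_eq {n : ↥(Subgroup.normalizer (D.qs : Set H))} {i j : Fin 5}
    (h : Sim f (f (pt j)) (n * f (pt i) * (n : H)⁻¹)) : D.pmap n i = j :=
  D.point_eq (D.sim_trans (D.pmap_spec n i) (D.sim_symm h))

theorem pmap_one (i : Fin 5) : D.pmap 1 i = i := D.pmap_eq (Or.inl (by simp))

theorem pmap_mul (a b : ↥(Subgroup.normalizer (D.qs : Set H))) (i : Fin 5) :
    D.pmap (a * b) i = D.pmap a (D.pmap b i) := by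
  refine D.pmap_eq ?_
  rw [Subgroup.coe_mul, show (a : H) * b * f (pt i) * ((a : H) * b)⁻¹ = a * (b * f (pt i) * (b : H)⁻¹) * (a : H)⁻¹ by group]
  exact D.sim_trans (D.pmap_spec a _) (D.sim_conj a (D.pmap_spec b i))

/-- The action on the points. -/
noncomputable def act : ↥(Subgroup.normalizer (D.qs : Set H)) →* Equiv.Perm (Fin 5) where
  toFun n :=
    { toFun := D.pmap n
      invFun := D.pmap n⁻¹
      left_inv := fun i => by rw [← D.pmap_mul, inv_mul_cancel, D.pmap_one]
      right_inv := fun i => by rw [← D.pmap_mul, mul_inv_cancel, D.pmap_one] }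
  map_one' := Equiv.ext D.pmap_one
  map_mul' a b := Equiv.ext (D.pmap_mul a b)

theorem act_spec (n : ↥(Subgroup.normalizer (D.qs : Set H))) (i : Fin 5) :
    Sim f (f (pt (D.act n i))) (n * f (pt i) * (n : H)⁻¹) := D.pmap_spec n i

theorem act_eq {n : ↥(Subgroup.normalizer (D.qs : Set H))} {i j : Fin 5}
    (h : Sim f (f (pt j)) (n * f (pt i) * (n : H)⁻¹)) : D.act n i = j := D.pmap_eq h

/-- A label as an element of the normaliser. -/
def lab (a : ℕ) (ha : a < 128) : ↥(Subgroup.normalizer (D.qs : Set H)) :=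
  ⟨f a, D.range_le_normalizer (D.emb.apply_mem ha)⟩

omit D in
/-- The four permutations induced by the image. -/
def act4 : List (Equiv.Perm (Fin 5)) :=
  [1, Equiv.swap 0 3 * Equiv.swap 1 2, Equiv.swap 0 1 * Equiv.swap 2 3, Equiv.swap 0 2 * Equiv.swap 1 3]

omit D in
theorem act4_check : ∀ k < 4, ∀ i : Fin 5, ((act4.getD k 1) i : ℕ) = (actL.getD k []).getD i 0 := by
  decide +kernel

omit D in
theorem act4_even : ∀ σ ∈ act4, Equiv.Perm.sign σ = 1 := by decide +kernel

omit D in
theorem act4_closed : ∀ σ ∈ act4, σ * σ = 1 ∧ σ 4 = 4 := by decide +kernel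

theorem act_lab (a : ℕ) (ha : a < 128) : D.act (D.lab a ha) ∈ act4 := by
  obtain ⟨k, hk, h⟩ := act_list a ha
  have : D.act (D.lab a ha) = act4.getD k 1 := by
    ext i : 1
    refine D.act_eq ?_
    show Sim f _ (f a * f (pt i) * (f a)⁻¹)
    rw [← D.emb.conj ha (pt_facts i).2.1, act4_check k hk i]
    refine (D.sim_label ?_ (show cj a (pt i) < 128 from mulN_lt _ _)).2 (h i i.2)
    rw [← act4_check k hk i]
    exact (pt_facts _).2.1
  rw [this, List.getD_eq_getElem _ _ (show k < act4.length by simpa [act4] using hk)]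
  exact List.getElem_mem _

theorem act_lab_eq_one (a : ℕ) (ha : a < 128) (h : D.act (D.lab a ha) = 1) : inQ a = true := by
  refine act_ker a ha fun i hi => ?_
  have := D.act_spec (D.lab a ha) ⟨i, hi⟩
  rw [h, Equiv.Perm.one_apply] at this
  change Sim f _ (f a * f (pt i) * (f a)⁻¹) at this
  rwa [← D.emb.conj ha (pt_facts ⟨i, hi⟩).2.1,
    D.sim_label (pt_facts ⟨i, hi⟩).2.1 (show cj a (pt i) < 128 from mulN_lt _ _)] at this

theorem act_qs {n : ↥(Subgroup.normalizer (D.qs : Set H))} (hn : (n : H) ∈ D.qs) : D.act n = 1 :=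
  Equiv.ext fun i => D.act_eq ((D.flat_qs _ hn).2 _ (D.point_mem i))

/-- The image of the Sylow subgroup has order four. -/
theorem card_act_range :
    Nat.card ((D.emb.range.subgroupOf (Subgroup.normalizer (D.qs : Set H))).map D.act) = 4 := by
  set N := Subgroup.normalizer (D.qs : Set H)
  set S := D.emb.range.subgroupOf N
  have hk : D.qs.subgroupOf N = (D.act.comp S.subtype).ker.map S.subtype := by
    ext n
    constructor
    · intro hn
      exact ⟨⟨n, D.qs_le hn⟩, D.act_qs hn, rfl⟩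
    · rintro ⟨⟨n', ⟨a, ha, e⟩⟩, h, rfl⟩
      show (n' : H) ∈ D.qs
      rw [show (n' : H) = f a from e.symm, D.mem_qs ha]
      refine D.act_lab_eq_one a ha ?_
      rwa [show D.lab a ha = n' from Subtype.ext e]
  have h1 : Nat.card (D.qs.subgroupOf N) = 32 := by
    rw [Nat.card_congr (Subgroup.subgroupOfEquivOfLe (D.qs_le.trans D.range_le_normalizer)).toEquiv, D.card_qs]
  have h2 : Nat.card S = 128 := by
    rw [Nat.card_congr (Subgroup.subgroupOfEquivOfLe D.range_le_normalizer).toEquiv, D.emb.card_range]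
  rw [hk, Nat.card_congr (Subgroup.equivMapOfInjective _ S.subtype S.subtype_injective).toEquiv.symm] at h1
  have h3 := (D.act.comp S.subtype).ker.card_mul_index
  rw [Subgroup.index_ker, h1, h2, MonoidHom.range_comp, Subgroup.range_subtype] at h3
  omega

variable [Finite H]

theorem odd_relIndex : ¬ 2 ∣ (D.emb.range.subgroupOf (Subgroup.normalizer (D.qs : Set H))).index :=
  fun h => D.odd (h.trans (Subgroup.relIndex_dvd_index_of_le D.range_le_normalizer))

theorem exists_act_five : ∀ i : Fin 5, ∃ n, D.act n i = 4 := by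
  obtain ⟨n, hn, hn5⟩ := D.exists_fuse_normalizer
  have h04 : D.act ⟨n, hn⟩ 0 = 4 := by
    refine D.act_eq ?_
    show Sim f (f (pt 4)) (n * f (pt 0) * n⁻¹)
    rw [q_mem.2.2.2.2.2.2.1, q_mem.2.2.2.2.2.2.2]
    exact hn5
  intro i
  by_cases hi : (i : ℕ) < 4
  · obtain ⟨s, hs, h⟩ := q_orbit i hi
    refine ⟨⟨n, hn⟩ * (D.lab s hs)⁻¹, ?_⟩
    have e : D.act (D.lab s hs) 0 = i := by
      refine D.act_eq ?_
      show Sim f (f (pt i)) (f s * f (pt 0) * (f s)⁻¹)
      rw [q_mem.2.2.2.2.2.2.2, ← D.emb.conj hs (by omega),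
        D.sim_label (pt_facts i).2.1 (show cj s 5 < 128 from mulN_lt _ _)]
      exact h
    rw [map_mul, map_inv, Equiv.Perm.mul_apply, ← e, Equiv.Perm.inv_def, Equiv.symm_apply_apply, h04]
  · refine ⟨1, ?_⟩
    rw [map_one, Equiv.Perm.one_apply]
    exact Fin.ext (show (i : ℕ) = 4 by omega)

/-- The action has the alternating group as image. -/
theorem act_range : D.act.range = alternatingGroup (Fin 5) := by
  classical
  haveI : Fact (Nat.Prime 5) := ⟨by norm_num⟩
  set N := Subgroup.normalizer (D.qs : Set H)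
  set S := D.emb.range.subgroupOf N
  have hle : D.act.range ≤ alternatingGroup (Fin 5) := by
    set χ := Equiv.Perm.sign.comp D.act with hχ
    have hS : S ≤ χ.ker := by
      rintro ⟨n, hnN⟩ ⟨a, ha, e⟩
      change f a = n at e
      subst e
      exact act4_even _ (D.act_lab a ha)
    have hi : χ.ker.index = 1 := by
      have hd : χ.ker.index ∣ 2 := by
        rw [Subgroup.index_ker]
        have h := Subgroup.card_subgroup_dvd_card χ.range
        rwa [show Nat.card ℤˣ = 2 by rw [Nat.card_eq_fintype_card]; rfl] at h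
      rcases (Nat.dvd_prime Nat.prime_two).1 hd with h | h
      · exact h
      · exact absurd (h ▸ Subgroup.index_dvd_of_le hS) D.odd_relIndex
    rintro _ ⟨n, rfl⟩
    have : n ∈ χ.ker := by rw [Subgroup.index_eq_one.1 hi]; trivial
    exact Equiv.Perm.mem_alternatingGroup.2 this
  set K := D.act.range.subgroupOf (alternatingGroup (Fin 5))
  have hK : Nat.card K = Nat.card D.act.range := Nat.card_congr (Subgroup.subgroupOfEquivOfLe hle).toEquiv
  have h4 : 4 ∣ Nat.card D.act.range := by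
    rw [← D.card_act_range]
    exact Subgroup.card_dvd_of_le (Subgroup.map_le_range _ _)
  have h5 : 5 ∣ Nat.card D.act.range := by
    have horb : MulAction.orbit D.act.range (4 : Fin 5) = Set.univ := by
      refine Set.eq_univ_of_forall fun i => ?_
      obtain ⟨n, hn⟩ := D.exists_act_five i
      refine MulAction.mem_orbit_iff.2 ⟨⟨(D.act n)⁻¹, inv_mem ⟨n, rfl⟩⟩, ?_⟩
      show (D.act n)⁻¹ 4 = i
      rw [← hn, Equiv.Perm.inv_def, Equiv.symm_apply_apply]
    have h := MulAction.index_stabilizer D.act.range (4 : Fin 5)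
    rw [horb, Set.ncard_univ, Nat.card_fin] at h
    exact (dvd_of_eq h.symm).trans (Subgroup.index_dvd_card _)
  have hcard : Nat.card (alternatingGroup (Fin 5)) = 60 := by
    rw [nat_card_alternatingGroup, Nat.card_eq_fintype_card, Fintype.card_fin]
    rfl
  have h20 : 20 ∣ Nat.card K := by
    rw [hK]
    exact Nat.Coprime.mul_dvd_of_dvd_of_dvd (by norm_num : Nat.Coprime 4 5) h4 h5
  have hm := K.card_mul_index
  rw [hcard] at hm
  obtain ⟨k, hk⟩ := h20
  rw [hk] at hm
  have hidx : K.index ≤ 3 := by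
    rcases Nat.eq_zero_or_pos k with rfl | hk0
    · simp at hm
    · nlinarith
  haveI : IsSimpleGroup (alternatingGroup (Fin 5)) := alternatingGroup.isSimpleGroup (by simp)
  rcases IsSimpleGroup.eq_bot_or_eq_top_of_normal K.normalCore (Subgroup.normalCore_normal K) with h | h
  · exfalso
    have hinj : Function.Injective (MulAction.toPermHom (alternatingGroup (Fin 5)) (alternatingGroup (Fin 5) ⧸ K)) :=
      (MonoidHom.ker_eq_bot_iff _).1 (by rw [← Subgroup.normalCore_eq_ker]; exact h)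
    have := Nat.card_le_card_of_injective _ hinj
    rw [hcard, Nat.card_perm] at this
    have h6 : (Nat.card (alternatingGroup (Fin 5) ⧸ K)).factorial ≤ 6 :=
      Nat.factorial_le (show Nat.card (alternatingGroup (Fin 5) ⧸ K) ≤ 3 from hidx)
    omega
  · have hKtop : K = ⊤ := top_le_iff.1 (h ▸ Subgroup.normalCore_le K)
    exact le_antisymm hle (Subgroup.subgroupOf_eq_top.1 hKtop)

/-- The action as a map onto the alternating group. -/
theorem exists_phi : ∃ φ : ↥(Subgroup.normalizer (D.qs : Set H)) →* alternatingGroup (Fin 5),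
    Function.Surjective φ ∧ ∀ n, ((φ n : alternatingGroup (Fin 5)) : Equiv.Perm (Fin 5)) = D.act n := by
  refine ⟨D.act.codRestrict _ fun n => D.act_range ▸ ⟨n, rfl⟩, ?_, fun n => rfl⟩
  rintro ⟨σ, hσ⟩
  rw [← D.act_range] at hσ
  obtain ⟨n, hn⟩ := hσ
  exact ⟨n, Subtype.ext hn⟩

end Cen

end Cfsg.Agent.J2Type
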