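import Cfsg.Prelude.Def_CaseTheorems
import Cfsg.Agent.Lib.Transfer.Basic
import Cfsg.Agent.Lib.J2Type.Fuse

/-!
The centraliser of the central involution modulo its odd core.
-/

set_option autoImplicit false
set_option linter.style.haveILetI false

namespace Cfsg.Agent.J2Type

/-- A group with the table as Sylow 2-subgroup, the central involution central, trivial odd core, and the outside
involution fused into the second centre. -/
structure Cen {H : Type*} [Group H] (f : ℕ → H) : Prop where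
  emb : Emb f
  odd : ¬ 2 ∣ emb.range.index
  central : ∀ h : H, h * f 2 = f 2 * h
  core : Cfsg.oddCore H = ⊥
  fuse : ∃ g : H, g * f 5 * g⁻¹ = f 1

theorem exists_cen {G : Type*} [Group G] [Finite G] {f : ℕ → G} (E : Emb f) (hodd : ¬ 2 ∣ E.range.index)
    (h2 : ∀ H : Subgroup G, H.index ≠ 2) :
    ∃ fH : ℕ → ↥(Subgroup.centralizer ({f 2} : Set G)) ⧸ Cfsg.oddCore ↥(Subgroup.centralizer ({f 2} : Set G)),
      Cen fH := by
  classical
  haveI : Fact (Nat.Prime 2) := ⟨Nat.prime_two⟩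
  set K := Subgroup.centralizer ({f 2} : Set G)
  set O := Cfsg.oddCore ↥K
  have hle : E.range ≤ K := by
    rintro _ ⟨a, ha, rfl⟩
    exact Subgroup.mem_centralizer_singleton_iff.2 ((E.commute_iff ha (by omega)).2 (z_check a ha))
  set fK : ℕ → ↥K := fun a => if h : f a ∈ K then ⟨f a, h⟩ else 1
  have hK : ∀ a, a < 128 → (fK a : G) = f a := fun a ha => by
    show ((if h : f a ∈ K then (⟨f a, h⟩ : ↥K) else 1 : ↥K) : G) = f a
    rw [dif_pos (hle (E.apply_mem ha))]
  have EK : Emb fK :=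
    { hom := fun a b ha hb => Subtype.ext (by
        rw [Subgroup.coe_mul, hK _ (mulN_lt _ _), hK a ha, hK b hb, E.hom a b ha hb])
      inj := fun a b ha hb h => E.inj a b ha hb (by rw [← hK a ha, ← hK b hb, h]) }
  have hKr : EK.range = E.range.subgroupOf K := by
    ext ⟨x, hx⟩
    constructor
    · rintro ⟨a, ha, e⟩
      exact ⟨a, ha, by rw [← hK a ha, e]; rfl⟩
    · rintro ⟨a, ha, e⟩
      exact ⟨a, ha, Subtype.ext (by rw [hK a ha]; exact e)⟩
  set π := QuotientGroup.mk' O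
  have hker : ∀ a, a < 128 → π (fK a) = 1 → fK a = 1 := by
    intro a ha h
    rw [QuotientGroup.mk'_apply, QuotientGroup.eq_one_iff] at h
    have h1 : orderOf (fK a) ∣ Nat.card ↥O := Subgroup.orderOf_dvd_natCard O h
    obtain ⟨k, hk⟩ := EK.isPGroup_range ⟨fK a, EK.apply_mem ha⟩
    have h2' : orderOf (fK a) ∣ 2 ^ k := orderOf_dvd_of_pow_eq_one (congrArg Subtype.val hk)
    exact orderOf_eq_one_iff.1 (Nat.eq_one_of_dvd_coprimes
      (Nat.Coprime.pow_left k (PBasic.pPrimeCore_coprime 2 ↥K).symm) h2' h1)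
  have EH := EK.map π hker
  refine ⟨fun a => π (fK a), EH, ?_, ?_, ?_, ?_⟩
  · intro hd
    refine hodd (hd.trans ?_)
    have hr : EH.range = EK.range.map π := by
      ext x
      constructor
      · rintro ⟨a, ha, rfl⟩; exact ⟨fK a, EK.apply_mem ha, rfl⟩
      · rintro ⟨_, ⟨a, ha, rfl⟩, rfl⟩; exact ⟨a, ha, rfl⟩
    rw [hr]
    refine (Subgroup.index_map_dvd EK.range (QuotientGroup.mk'_surjective O)).trans ?_
    rw [hKr]
    exact Subgroup.relIndex_dvd_index_of_le hle
  · rintro ⟨⟨x, hx⟩⟩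
    show π ⟨x, hx⟩ * π (fK 2) = π (fK 2) * π ⟨x, hx⟩
    rw [← map_mul, ← map_mul]
    refine congrArg π (Subtype.ext ?_)
    rw [Subgroup.coe_mul, Subgroup.coe_mul, hK 2 (by omega)]
    exact Subgroup.mem_centralizer_singleton_iff.1 hx
  · exact PBasic.pPrimeCore_quotient_pPrimeCore 2 ↥K
  · obtain ⟨g, hg, e⟩ := E.exists_fuse hodd h2
    refine ⟨π ⟨g, Subgroup.mem_centralizer_singleton_iff.2 hg⟩, ?_⟩
    show π _ * π (fK 5) * (π _)⁻¹ = π (fK 1)
    rw [← map_inv, ← map_mul, ← map_mul]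
    refine congrArg π (Subtype.ext ?_)
    rw [Subgroup.coe_mul, Subgroup.coe_mul, hK 5 (by omega), hK 1 (by omega)]
    exact e

end Cfsg.Agent.J2Type
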